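import Groth.Agent.NFApprox.Strong
import Mathlib.RingTheory.Norm.Basic
import Mathlib.RingTheory.TensorProduct.Free
import Mathlib.FieldTheory.PrimitiveElement
import Mathlib.LinearAlgebra.Matrix.Charpoly.Coeff
import Mathlib.Analysis.Polynomial.Basic

/-!
# Norms which are units or come from places of degree one
-/

universe u

open IsDedekindDomain NumberField Filter Topology
open scoped TensorProduct

namespace Groth.Agent.NFApprox

variable {k L : Type u} [Field k] [NumberField k] [Field L] [Algebra k L]

local notation "𝔓" => HeightOneSpectrum (NumberField.RingOfIntegers k)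

/-- The finitely many places where some element of a finite set is not integral. -/
theorem finite_not_integral (S : Finset k) : {v : 𝔓 | ∃ x ∈ S, ¬ v.valuation k x ≤ 1}.Finite := by
  classical
  obtain ⟨⟨b, hb⟩, hbx⟩ :=
    IsLocalization.exist_integer_multiples (nonZeroDivisors (NumberField.RingOfIntegers k)) S (fun x => x)
  refine (finite_places_mem (nonZeroDivisors.ne_zero hb)).subset fun v ⟨x, hx, hv⟩ => ?_
  by_contra hmem
  obtain ⟨a, ha⟩ := hbx x hx
  refine hv ?_
  have : v.valuation k (algebraMap _ k a) = v.valuation k x := by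
    rw [ha, Algebra.smul_def, map_mul, (v.valuation_eq_one_iff_notMem (K := k)).2 hmem, one_mul]
  rw [← this]
  exact v.valuation_le_one a

variable [FiniteDimensional k L]

/-- Outside a finite set of places, a zero modulo the place of the minimal polynomial gives a place of
degree one. -/
theorem exists_finite_bad (θ : L) (hθ : IntermediateField.adjoin k {θ} = ⊤) :
    ∃ B : Finset 𝔓, ∀ v ∉ B, (∀ i, v.valuation k ((minpoly k θ).coeff i) ≤ 1) ∧
      ∀ e : k, v.valuation k e ≤ 1 → v.valuation k ((minpoly k θ).eval e) < 1 →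
        Nonempty (L →ₐ[k] v.adicCompletion k) := by
  classical
  set P := minpoly k θ with hP
  have hint : IsIntegral k θ := .of_finite k θ
  obtain ⟨A, B, hAB⟩ : ∃ A B : Polynomial k, A * P + B * Polynomial.derivative P = 1 :=
    Irreducible.separable (minpoly.irreducible hint)
  let S : Finset k := A.coeffs ∪ B.coeffs ∪ P.coeffs
  refine ⟨(finite_not_integral S).toFinset, fun v hv => ?_⟩
  simp only [Set.Finite.mem_toFinset, Set.mem_setOf_eq, not_exists, not_and, not_not] at hv
  have hc : ∀ (Q : Polynomial k), Q.coeffs ⊆ S → ∀ i, v.valuation k (Q.coeff i) ≤ 1 := by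
    intro Q hQ i
    by_cases h : Q.coeff i = 0
    · rw [h, map_zero]; exact zero_le'
    · exact hv _ (hQ (Polynomial.coeff_mem_coeffs h))
  have hPc := hc P (Finset.subset_union_right)
  refine ⟨hPc, fun e he hlt => ?_⟩
  have hev : ∀ Q : Polynomial k, (∀ i, v.valuation k (Q.coeff i) ≤ 1) →
      v.valuation k (Q.eval e) ≤ 1 := by
    intro Q hQ
    rw [Polynomial.eval_eq_sum, Polynomial.sum]
    refine Valuation.map_sum_le _ fun i _ => ?_
    rw [map_mul, map_pow]
    exact mul_le_one' (hQ i) (pow_le_one' he i)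
  have hd : ∀ i, v.valuation k ((Polynomial.derivative P).coeff i) ≤ 1 := by
    intro i
    rw [Polynomial.coeff_derivative, map_mul, ← Nat.cast_succ,
      ← map_natCast (algebraMap (NumberField.RingOfIntegers k) k)]
    exact mul_le_one' (hPc _) (v.valuation_le_one _)
  have hunit : v.valuation k ((Polynomial.derivative P).eval e) = 1 := by
    refine le_antisymm (hev _ hd) (not_lt.1 fun hlt' => ?_)
    have h1 := congrArg (fun Q => v.valuation k (Polynomial.eval e Q)) hAB
    simp only [Polynomial.eval_add, Polynomial.eval_mul, Polynomial.eval_one, map_one] at h1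
    refine absurd h1 (ne_of_lt ((Valuation.map_add _ _ _).trans_lt (max_lt ?_ ?_)))
    · rw [map_mul]
      exact mul_lt_one_of_nonneg_of_lt_one_right (hev _ (hc A (Finset.subset_union_left.trans Finset.subset_union_left))) zero_le' hlt
    · rw [map_mul]
      exact mul_lt_one_of_nonneg_of_lt_one_right (hev _ (hc B (Finset.subset_union_right.trans Finset.subset_union_left))) zero_le' hlt'
  obtain ⟨r, hr⟩ := exists_root v (P.map (algebraMap k (v.adicCompletion k)))
    (fun i => by rw [Polynomial.coeff_map, valued_algebraMap]; exact hPc i)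
    (algebraMap k _ e) (by rw [valued_algebraMap]; exact he)
    (by rw [Polynomial.eval_map, Polynomial.eval₂_at_apply, valued_algebraMap]; exact hlt)
    (by rw [Polynomial.derivative_map, Polynomial.eval_map, Polynomial.eval₂_at_apply,
          valued_algebraMap]; exact hunit)
  have hr' : Polynomial.aeval r P = 0 := by
    rw [Polynomial.aeval_def, ← Polynomial.eval_map]; exact hr
  let pb := IntermediateField.adjoin.powerBasis hint
  exact ⟨(pb.lift r (by rw [IntermediateField.adjoin.powerBasis_gen, IntermediateField.minpoly_gen]; exact hr')).comp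
    (((IntermediateField.equivOfEq hθ).trans IntermediateField.topEquiv).symm).toAlgHom⟩

variable [NumberField L]

/-- There are places of degree one outside any finite set. -/
theorem exists_place_degree_one (T : Finset 𝔓) :
    ∃ v ∉ T, Nonempty (L →ₐ[k] v.adicCompletion k) := by
  classical
  obtain ⟨θ, hθ⟩ := Field.exists_primitive_element k L
  obtain ⟨B, hB⟩ := exists_finite_bad θ hθ
  set P := minpoly k θ with hP
  have hint : IsIntegral k θ := .of_finite k θ
  have hPdeg : 0 < P.natDegree := minpoly.natDegree_pos hint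
  by_contra hcon
  push Not at hcon
  obtain ⟨e₀, he₀⟩ : ∃ n : ℕ, P.eval (n : k) ≠ 0 := by
    by_contra! h
    exact (minpoly.ne_zero hint) (Polynomial.eq_zero_of_infinite_isRoot P
      ((Set.infinite_range_of_injective (Nat.cast_injective (R := k))).mono (by rintro _ ⟨n, rfl⟩; exact h n)))
  set a := P.eval (e₀ : k) with ha
  -- a multiplier fixing the valuations at the exceptional places
  have hball : ∀ v : 𝔓, ∃ m : ℕ, ∀ x : k, v.valuation k x ≤ WithZero.exp (-(m : ℤ)) →
      v.valuation k (P.eval (e₀ + x)) = v.valuation k a := by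
    intro v
    let g : v.adicCompletion k → v.adicCompletion k := fun x =>
      (P.map (algebraMap k (v.adicCompletion k))).eval (algebraMap k _ (e₀ : k) + x)
    have hg : Continuous g := (Polynomial.continuous _).comp (continuous_const.add continuous_id)
    have hg0 : g 0 = algebraMap k _ a := by
      simp only [g, add_zero, Polynomial.eval_map, Polynomial.eval₂_at_apply, ha]
    have ha' : algebraMap k (v.adicCompletion k) a ≠ 0 :=
      (map_ne_zero_iff _ (algebraMap k (v.adicCompletion k)).injective).2 he₀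
    obtain ⟨c, hc⟩ := WithZero.ne_zero_iff_exists.1 ((Valuation.ne_zero_iff Valued.v).2 ha')
    have hopen : IsOpen (g ⁻¹' {y | Valued.v (y - algebraMap k _ a) < WithZero.exp (Multiplicative.toAdd c)}) :=
      ((isOpen_lt_exp v _).preimage (continuous_id.sub continuous_const)).preimage hg
    obtain ⟨m, hm⟩ := exists_ball_subset v (hopen.mem_nhds (x := 0) (by simp [hg0, WithZero.exp_pos]))
    refine ⟨m.natAbs + 1, fun x hx => ?_⟩
    have h1 := hm (show Valued.v (algebraMap k (v.adicCompletion k) x) < WithZero.exp m by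
      rw [valued_algebraMap]
      refine hx.trans_lt (WithZero.exp_lt_exp.2 ?_)
      omega)
    simp only [Set.mem_preimage, Set.mem_setOf_eq, g] at h1
    rw [← map_add, Polynomial.eval_map, Polynomial.eval₂_at_apply,
      show WithZero.exp (Multiplicative.toAdd c) = Valued.v (algebraMap k (v.adicCompletion k) a) from hc] at h1
    rw [← valued_algebraMap, Valued.v.map_eq_of_sub_lt h1, valued_algebraMap]
  choose m hm using hball
  let S : Finset 𝔓 := T ∪ B
  let J : Ideal (NumberField.RingOfIntegers k) := ∏ v ∈ S, v.asIdeal ^ m v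
  obtain ⟨M, hMJ, hM⟩ := Submodule.exists_mem_ne_zero_of_ne_bot
    (show J ≠ ⊥ from Finset.prod_ne_zero_iff.2 fun v _ => pow_ne_zero _ v.ne_bot)
  set Mk := algebraMap (NumberField.RingOfIntegers k) k M with hMk'
  have hMk : Mk ≠ 0 := (map_ne_zero_iff _ (IsFractionRing.injective _ k)).2 hM
  -- all valuations are constant along the progression
  have hval : ∀ (t : ℕ) (v : 𝔓), v.valuation k (P.eval (e₀ + t * Mk)) = v.valuation k a := by
    intro t v
    by_cases hv : v ∈ S
    · refine hm v _ ?_
      have h1 : M ∈ v.asIdeal ^ m v :=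
        Ideal.le_of_dvd (Finset.dvd_prod_of_mem (fun v : 𝔓 => v.asIdeal ^ m v) hv) hMJ
      rw [← HeightOneSpectrum.intValuation_le_pow_iff_mem,
        ← HeightOneSpectrum.valuation_of_algebraMap (K := k)] at h1
      rw [map_mul, ← map_natCast (algebraMap (NumberField.RingOfIntegers k) k)]
      exact (mul_le_mul' (v.valuation_le_one _) h1).trans_eq (one_mul _)
    · obtain ⟨hvT, hvB⟩ := Finset.notMem_union.1 hv
      obtain ⟨hPc, hroot⟩ := hB v hvB
      have hone : ∀ e : k, v.valuation k e ≤ 1 → v.valuation k (P.eval e) = 1 := by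
        intro e he
        refine le_antisymm ?_ (not_lt.1 fun hlt => (hcon v hvT).false (hroot e he hlt).some)
        rw [Polynomial.eval_eq_sum, Polynomial.sum]
        refine Valuation.map_sum_le _ fun i _ => ?_
        rw [map_mul, map_pow]
        exact mul_le_one' (hPc i) (pow_le_one' he i)
      have hn : ∀ n : ℕ, v.valuation k (n : k) ≤ 1 := fun n => by
        rw [← map_natCast (algebraMap (NumberField.RingOfIntegers k) k)]; exact v.valuation_le_one _
      rw [ha, hone _ (hn e₀), hone]
      refine ((v.valuation k).map_add _ _).trans (max_le (hn _) ?_)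
      rw [map_mul]
      exact mul_le_one' (hn _) (v.valuation_le_one M)
  -- so the absolute norms are bounded
  have hprod : ∀ t : ℕ, P.eval ((e₀ : k) + t * Mk) ≠ 0 →
      |(Algebra.norm ℚ (P.eval (e₀ + t * Mk)) : ℝ)| = |(Algebra.norm ℚ a : ℝ)| := by
    intro t ht
    set q := P.eval ((e₀ : k) + t * Mk) / a with hq
    have hq0 : q ≠ 0 := div_ne_zero ht he₀
    have h1 : ∀ v : 𝔓, v.valuation k q = 1 := fun v => by
      rw [hq, map_div₀, hval, div_self ((Valuation.ne_zero_iff _).2 he₀)]
    obtain ⟨x, hx⟩ := HeightOneSpectrum.mem_integers_of_valuation_le_one k q fun v => (h1 v).le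
    obtain ⟨y, hy⟩ := HeightOneSpectrum.mem_integers_of_valuation_le_one k q⁻¹ fun v => by
      rw [map_inv₀, h1, inv_one]
    have hu : IsUnit x := IsUnit.of_mul_eq_one y (IsFractionRing.injective _ k (by
      rw [map_mul, map_one, hx, hy, mul_inv_cancel₀ hq0]))
    have h2 := NumberField.isUnit_iff_norm.1 hu
    rw [RingOfIntegers.coe_norm, show (x : k) = q from hx] at h2
    have h3 : |(Algebra.norm ℚ q : ℝ)| = 1 := by exact_mod_cast h2
    rw [← show q * a = P.eval ((e₀ : k) + t * Mk) from div_mul_cancel₀ _ he₀, map_mul, Rat.cast_mul,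
      abs_mul, h3, one_mul]
  -- but they grow
  have hgrow : ∀ φ : k →+* ℂ, Tendsto (fun t : ℕ => ‖φ (P.eval ((e₀ : k) + t * Mk))‖) atTop atTop := by
    intro φ
    have hlin : Tendsto (fun t : ℕ => ‖(e₀ : ℂ) + t * φ Mk‖) atTop atTop := by
      refine tendsto_atTop_mono (f := fun t : ℕ => (t : ℝ) * ‖φ Mk‖ + (-(e₀ : ℝ))) (fun t => ?_)
        (tendsto_atTop_add_const_right _ _
          (tendsto_natCast_atTop_atTop.atTop_mul_const (norm_pos_iff.2 ((map_ne_zero φ).2 hMk))))
      have h1 := norm_sub_le ((e₀ : ℂ) + t * φ Mk) (e₀ : ℂ)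
      rw [add_sub_cancel_left, norm_mul, Complex.norm_natCast, Complex.norm_natCast] at h1
      linarith
    have hdeg : 0 < (P.map φ).degree := by
      rw [Polynomial.degree_map]
      exact Polynomial.natDegree_pos_iff_degree_pos.1 hPdeg
    have := (P.map φ).tendsto_norm_atTop hdeg hlin
    refine this.congr fun t => ?_
    rw [Polynomial.eval_map, ← Polynomial.eval₂_at_apply, map_add, map_mul, map_natCast, map_natCast]
  have hw : ∀ w : InfinitePlace k, ∀ C : ℝ, ∀ᶠ t : ℕ in atTop,
      C < w (P.eval ((e₀ : k) + t * Mk)) := fun w C => by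
    filter_upwards [(hgrow w.embedding).eventually_gt_atTop C] with t ht
    rwa [← InfinitePlace.norm_embedding_eq]
  obtain ⟨t, ht⟩ := ((Filter.eventually_all.2 fun w : InfinitePlace k =>
    hw w (1 + |(Algebra.norm ℚ a : ℝ)|)).exists)
  have hne : P.eval ((e₀ : k) + t * Mk) ≠ 0 := by
    obtain ⟨w⟩ : Nonempty (InfinitePlace k) := inferInstance
    intro h
    have := ht w
    rw [h, map_zero] at this
    linarith [abs_nonneg (Algebra.norm ℚ a : ℝ)]
  have h1 := hprod t hne
  have h3 : |(Algebra.norm ℚ a : ℝ)| < |(Algebra.norm ℚ (P.eval (e₀ + t * Mk)) : ℝ)| := by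
    rw [show |(Algebra.norm ℚ (P.eval ((e₀ : k) + t * Mk)) : ℝ)| =
        ∏ w : InfinitePlace k, w (P.eval ((e₀ : k) + t * Mk)) ^ w.mult by
      rw [InfinitePlace.prod_eq_abs_norm]; push_cast; rfl]
    obtain ⟨w₀⟩ : Nonempty (InfinitePlace k) := inferInstance
    rw [← Finset.mul_prod_erase _ _ (Finset.mem_univ w₀)]
    have hge : ∀ w : InfinitePlace k, (1 : ℝ) ≤ w (P.eval ((e₀ : k) + t * Mk)) ^ w.mult := fun w =>
      one_le_pow₀ (by linarith [ht w, abs_nonneg (Algebra.norm ℚ a : ℝ)])
    have h4 : (1 : ℝ) ≤ ∏ w ∈ Finset.univ.erase w₀, w (P.eval ((e₀ : k) + t * Mk)) ^ w.mult := by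
      calc (1 : ℝ) = ∏ w ∈ Finset.univ.erase w₀, (1 : ℝ) := Finset.prod_const_one.symm
        _ ≤ _ := Finset.prod_le_prod (fun _ _ => zero_le_one) fun w _ => hge w
    calc |(Algebra.norm ℚ a : ℝ)| < w₀ (P.eval ((e₀ : k) + t * Mk)) := by linarith [ht w₀]
      _ ≤ w₀ (P.eval ((e₀ : k) + t * Mk)) ^ w₀.mult :=
          le_self_pow₀ (by linarith [ht w₀, abs_nonneg (Algebra.norm ℚ a : ℝ)]) InfinitePlace.mult_ne_zero
      _ ≤ _ := le_mul_of_one_le_right (pow_nonneg (apply_nonneg _ _) _) h4
  exact h3.ne h1.symm

section Coordinates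

variable {ι : Type*} [Fintype ι] [DecidableEq ι] (bs : Module.Basis ι k L) (R : Type u) [Field R] [Algebra k R]

/-- The norm in coordinates. -/
theorem norm_coord (x : R ⊗[k] L) :
    Algebra.norm R x = (∑ j, (Algebra.TensorProduct.basis R bs).repr x j •
      (Algebra.leftMulMatrix bs (bs j)).map (algebraMap k R)).det := by
  classical
  let bR := Algebra.TensorProduct.basis R bs
  rw [Algebra.norm_eq_matrix_det bR]
  congr 1
  conv_lhs => rw [← bR.sum_repr x]
  rw [map_sum]
  refine Finset.sum_congr rfl fun j _ => ?_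
  rw [map_smul]
  congr 1
  ext i l
  rw [Algebra.leftMulMatrix_eq_repr_mul, Matrix.map_apply, Algebra.leftMulMatrix_eq_repr_mul,
    Algebra.TensorProduct.basis_apply, Algebra.TensorProduct.basis_apply,
    Algebra.TensorProduct.tmul_mul_tmul, one_mul, Algebra.TensorProduct.basis_repr_tmul,
    Finsupp.smul_apply, Finsupp.mapRange_apply, one_smul]

end Coordinates

/-- The norm of `e + y` is a unit or comes from a place of degree one, away from `v₀`. -/
theorem exists_near_integral
    (Sf : Finset 𝔓) (Si : Finset (InfinitePlace k))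
    (tf : (v : 𝔓) → v.adicCompletion k) (ti : (w : InfinitePlace k) → w.Completion)
    (htf : ∀ v ∈ Sf, tf v ≠ 0 ∧ ∃ x : (v.adicCompletion k) ⊗[k] L, Algebra.norm (v.adicCompletion k) x = tf v)
    (hti : ∀ w ∈ Si, ti w ≠ 0 ∧ ∃ x : w.Completion ⊗[k] L, Algebra.norm w.Completion x = ti w)
    (Uf : (v : 𝔓) → Set (v.adicCompletion k)) (hUf : ∀ v ∈ Sf, IsOpen (Uf v) ∧ tf v ∈ Uf v)
    (Ui : (w : InfinitePlace k) → Set w.Completion) (hUi : ∀ w ∈ Si, IsOpen (Ui w) ∧ ti w ∈ Ui w)
    (v₀ : 𝔓) (hv₀ : v₀ ∉ Sf) (hLv₀ : Nonempty (L →ₐ[k] v₀.adicCompletion k)) :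
    ∃ t : k, t ≠ 0 ∧ (∀ v ∈ Sf, algebraMap k (v.adicCompletion k) t ∈ Uf v) ∧
      (∀ w ∈ Si, algebraMap k w.Completion t ∈ Ui w) ∧
      (∀ v : 𝔓, v ∉ Sf → v ≠ v₀ → v.valuation k t ≤ 1) ∧
      ∀ v : 𝔓, v ∉ Sf → v.valuation k t = 1 ∨ Nonempty (L →ₐ[k] v.adicCompletion k) := by
  classical
  obtain ⟨θ, hθ⟩ := Field.exists_primitive_element k L
  set d := Module.finrank k L with hd
  have hd0 : 0 < d := Module.finrank_pos
  let bs := Module.finBasis k L
  let bR : ∀ (R : Type u) [Field R] [Algebra k R], Module.Basis (Fin d) R (R ⊗[k] L) :=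
    fun R _ _ => Algebra.TensorProduct.basis R bs
  -- the three groups of variables
  let E : Option (Option (Fin d)) → L := fun j => j.elim 1 fun j' => j'.elim θ bs
  let Mat : Option (Option (Fin d)) → Matrix (Fin d) (Fin d) k := fun j => Algebra.leftMulMatrix bs (E j)
  let Nm : ∀ (R : Type u) [Field R] [Algebra k R], (Option (Option (Fin d)) → R) → R :=
    fun R _ _ c => (∑ j, c j • (Mat j).map (algebraMap k R)).det
  have hcontN : ∀ (R : Type u) [Field R] [Algebra k R] [TopologicalSpace R] [IsTopologicalRing R],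
      Continuous (Nm R) := by
    intro R _ _ _ _
    refine Continuous.matrix_det ?_
    exact continuous_finsetSum _ fun j _ => (continuous_apply j).smul continuous_const
  have hnat : ∀ (R : Type u) [Field R] [Algebra k R] (c : Option (Option (Fin d)) → k),
      Nm R (fun j => algebraMap k R (c j)) = algebraMap k R (Nm k c) := by
    intro R _ _ c
    simp only [Nm, Algebra.algebraMap_self, RingHom.coe_id, Matrix.map_id, id_eq]
    rw [RingHom.map_det]
    congr 1
    ext i l
    simp [Matrix.sum_apply, Matrix.map_apply, RingHom.mapMatrix_apply]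
    simp only [Algebra.smul_def]
  -- targets
  have htgt : ∀ (R : Type u) [Field R] [Algebra k R] (y : R ⊗[k] L), ∃ c : Option (Option (Fin d)) → R,
      Nm R c = Algebra.norm R y := by
    intro R _ _ y
    refine ⟨fun j => j.elim 0 fun j' => j'.elim 0 fun i => (bR R).repr y i, ?_⟩
    rw [norm_coord bs R y]
    simp only [Nm, Fintype.sum_option, Option.elim_none, Option.elim_some, zero_smul, zero_add]
    rfl
  -- exceptional places
  let S₀ : Finset k := Finset.univ.biUnion fun j => Finset.univ.image fun p : Fin d × Fin d => Mat j p.1 p.2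
  have hfac : ((Nat.factorial d : ℕ) : NumberField.RingOfIntegers k) ≠ 0 := Nat.cast_ne_zero.2 d.factorial_ne_zero
  let T₁ : Finset 𝔓 := (Sf ∪ (finite_not_integral S₀).toFinset ∪ (finite_places_mem hfac).toFinset).erase v₀
  have hSfT : Sf ⊆ T₁ := fun v hv => Finset.mem_erase.2 ⟨fun h => hv₀ (h ▸ hv),
    Finset.mem_union_left _ (Finset.mem_union_left _ hv)⟩
  have hv₀T : v₀ ∉ T₁ := Finset.notMem_erase _ _
  let base : Option (Option (Fin d)) → k := fun j => j.elim 1 fun _ => 0
  have hbase : Nm k base = 1 := by
    simp [Nm, base, Fintype.sum_option, Mat, E]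
  -- boxes at the exceptional places and at infinity
  have hboxf : ∀ v : 𝔓, ∃ (c : Option (Option (Fin d)) → v.adicCompletion k)
      (U : Option (Option (Fin d)) → Set (v.adicCompletion k)), (∀ j, U j ∈ 𝓝 (c j)) ∧
      ∀ c', (∀ j, c' j ∈ U j) → (v ∈ Sf → Nm _ c' ∈ Uf v) ∧ (v ∉ Sf → Valued.v (Nm _ c') = 1) := by
    intro v
    obtain ⟨c, O, hO, hcO, hOU⟩ : ∃ (c : Option (Option (Fin d)) → v.adicCompletion k) (O : Set (v.adicCompletion k)),
        IsOpen O ∧ Nm _ c ∈ O ∧ ∀ y ∈ O, (v ∈ Sf → y ∈ Uf v) ∧ (v ∉ Sf → Valued.v y = 1) := by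
      by_cases hv : v ∈ Sf
      · obtain ⟨-, y, hy⟩ := htf v hv
        obtain ⟨c, hc⟩ := htgt _ y
        exact ⟨c, Uf v, (hUf v hv).1, by rw [hc, hy]; exact (hUf v hv).2,
          fun y hy => ⟨fun _ => hy, fun h => absurd hv h⟩⟩
      · refine ⟨fun j => algebraMap k _ (base j), {y | Valued.v (y - 1) < WithZero.exp 0},
          (isOpen_lt_exp v 0).preimage (continuous_id.sub continuous_const), ?_,
          fun y hy => ⟨fun h => absurd h hv, fun _ => ?_⟩⟩
        · rw [hnat, hbase, map_one]; simp
        · rw [← Valued.v.map_one (R := v.adicCompletion k)]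
          exact Valuation.map_eq_of_sub_lt _ (by simpa using hy)
    obtain ⟨I, U, hU, hsub⟩ := isOpen_pi_iff.1 (hO.preimage (hcontN (v.adicCompletion k))) c hcO
    exact ⟨c, fun j => if j ∈ I then U j else Set.univ, fun j => by
      dsimp only
      split_ifs with hj
      · exact (hU j hj).1.mem_nhds (hU j hj).2
      · exact Filter.univ_mem, fun c' hc' => hOU _ (hsub fun j hj => by
          have := hc' j
          simp only [Finset.mem_coe.1 hj, if_true] at this
          exact this)⟩
  have hboxi : ∀ w : InfinitePlace k, ∃ (c : Option (Option (Fin d)) → w.Completion)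
      (U : Option (Option (Fin d)) → Set w.Completion), (∀ j, U j ∈ 𝓝 (c j)) ∧
      ∀ c', (∀ j, c' j ∈ U j) → (w ∈ Si → Nm _ c' ∈ Ui w) ∧ Nm _ c' ≠ 0 := by
    intro w
    obtain ⟨c, O, hO, hcO, hOU⟩ : ∃ (c : Option (Option (Fin d)) → w.Completion) (O : Set w.Completion),
        IsOpen O ∧ Nm _ c ∈ O ∧ ∀ y ∈ O, (w ∈ Si → y ∈ Ui w) ∧ y ≠ 0 := by
      by_cases hw : w ∈ Si
      · obtain ⟨hne, y, hy⟩ := hti w hw
        obtain ⟨c, hc⟩ := htgt _ y
        exact ⟨c, Ui w ∩ {y | y ≠ 0}, (hUi w hw).1.inter isOpen_ne,
          by rw [hc, hy]; exact ⟨(hUi w hw).2, hne⟩, fun y hy => ⟨fun _ => hy.1, hy.2⟩⟩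
      · exact ⟨fun j => algebraMap k _ (base j), {y | y ≠ 0}, isOpen_ne,
          by rw [hnat, hbase, map_one]; exact one_ne_zero, fun y hy => ⟨fun h => absurd h hw, hy⟩⟩
    obtain ⟨I, U, hU, hsub⟩ := isOpen_pi_iff.1 (hO.preimage (hcontN w.Completion)) c hcO
    exact ⟨c, fun j => if j ∈ I then U j else Set.univ, fun j => by
      dsimp only
      split_ifs with hj
      · exact (hU j hj).1.mem_nhds (hU j hj).2
      · exact Filter.univ_mem, fun c' hc' => hOU _ (hsub fun j hj => by
          have := hc' j
          simp only [Finset.mem_coe.1 hj, if_true] at this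
          exact this)⟩
  choose cf Bf hBf hNf using hboxf
  choose ci Bi hBi hNi using hboxi
  -- the coordinates
  have hchoose : ∀ i : Fin d, ∃ c : k,
      (∀ v ∈ T₁, algebraMap k (v.adicCompletion k) c ∈ Bf v (some (some i))) ∧
      (∀ w, algebraMap k w.Completion c ∈ Bi w (some (some i))) ∧
      ∀ v ∉ T₁, v ≠ v₀ → v.valuation k c ≤ 1 := fun i =>
    exists_strong_approx_nhds v₀ T₁ hv₀T _ _ (fun v _ => hBf v _) _ _ (fun w => hBi w _)
  choose cc hccf hcci hccint using hchoose
  set y : L := ∑ i, cc i • bs i with hy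
  -- avoiding the intermediate fields
  haveI : Finite (IntermediateField k L) :=
    Field.finite_intermediateField_of_exists_primitive_element k L ⟨θ, hθ⟩
  let F : Set k := {s | IntermediateField.adjoin k {-(y + s • θ)} ≠ ⊤}
  have hFfin : F.Finite := by
    refine (Set.finite_iUnion fun K : {K : IntermediateField k L // K ≠ ⊤} =>
      (show ({s : k | y + s • θ ∈ K.1}).Finite from ?_)).subset fun s hs => ?_
    · refine Set.Subsingleton.finite fun s hs s' hs' => ?_
      by_contra hne
      refine K.2 (top_le_iff.1 (hθ.ge.trans (IntermediateField.adjoin_simple_le_iff.2 ?_)))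
      have h1 : (s - s') • θ ∈ K.1 := by
        have := K.1.sub_mem hs hs'
        rwa [add_sub_add_left_eq_sub, ← sub_smul] at this
      have := K.1.smul_mem h1 (x := (s - s')⁻¹)
      rwa [smul_smul, inv_mul_cancel₀ (sub_ne_zero.2 hne), one_smul] at this
    · refine Set.mem_iUnion.2 ⟨⟨_, hs⟩, ?_⟩
      simpa using neg_mem (IntermediateField.mem_adjoin_simple_self k (-(y + s • θ)))
  obtain ⟨w₁⟩ : Nonempty (InfinitePlace k) := inferInstance
  obtain ⟨a₁, ha₁, ha₁F⟩ : ∃ a ∈ interior (Bi w₁ (some none)),
      a ∉ algebraMap k w₁.Completion '' F := by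
    have hseq : Tendsto (fun n : ℕ => ci w₁ (some none) + algebraMap k w₁.Completion (1 / ((n : k) + 1)))
        atTop (𝓝 (ci w₁ (some none))) := by
      conv => arg 3; rw [← add_zero (ci w₁ (some none))]
      refine tendsto_const_nhds.add (tendsto_zero_iff_norm_tendsto_zero.2 ?_)
      refine tendsto_one_div_add_atTop_nhds_zero_nat.congr fun n => ?_
      rw [InfinitePlace.Completion.algebraMap_apply, InfinitePlace.Completion.norm_coe]
      show _ = w₁ (1 / ((n : k) + 1))
      rw [← InfinitePlace.norm_embedding_eq, map_div₀, map_one, map_add, map_one, map_natCast,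
        norm_div, norm_one, show (n : ℂ) + 1 = ((n + 1 : ℕ) : ℂ) by push_cast; ring, Complex.norm_natCast]
      push_cast
      rfl
    have hev := hseq.eventually_mem (interior_mem_nhds.2 (hBi w₁ (some none)))
    obtain ⟨N, hN⟩ := Filter.eventually_atTop.1 hev
    by_contra! hcon
    refine (hFfin.image (algebraMap k w₁.Completion)).not_infinite
      ((Set.infinite_range_of_injective (f := fun n : ℕ =>
        ci w₁ (some none) + algebraMap k w₁.Completion (1 / (((N + n : ℕ) : k) + 1))) ?_).mono ?_)
    · intro n n' h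
      have h2 := (algebraMap k w₁.Completion).injective (add_left_cancel h)
      rw [one_div, one_div, inv_inj, add_left_inj, Nat.cast_inj] at h2
      omega
    · rintro _ ⟨n, rfl⟩
      exact hcon _ (hN (N + n) (Nat.le_add_right N n))
  obtain ⟨s, hsf, hsi, hsint⟩ := exists_strong_approx_nhds v₀ T₁ hv₀T
    (fun v => cf v (some none)) (fun v => Bf v (some none)) (fun v _ => hBf v _)
    (Function.update (fun w => ci w (some none)) w₁ a₁)
    (Function.update (fun w => Bi w (some none)) w₁
      (interior (Bi w₁ (some none)) \ algebraMap k w₁.Completion '' F))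
    (fun w => by
      rcases eq_or_ne w w₁ with rfl | hw
      · rw [Function.update_self, Function.update_self]
        exact (isOpen_interior.sdiff (hFfin.image _).isClosed).mem_nhds ⟨ha₁, ha₁F⟩
      · rw [Function.update_of_ne hw, Function.update_of_ne hw]; exact hBi w _)
  have hsi' : ∀ w, algebraMap k w.Completion s ∈ Bi w (some none) := fun w => by
    have := hsi w
    rcases eq_or_ne w w₁ with rfl | hw
    · rw [Function.update_self] at this; exact interior_subset this.1
    · rwa [Function.update_of_ne hw] at this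
  set z : L := -(y + s • θ) with hz
  have hz' : IntermediateField.adjoin k {z} = ⊤ := by
    by_contra h
    have := hsi w₁
    rw [Function.update_self] at this
    exact this.2 ⟨s, h, rfl⟩
  have hzint : IsIntegral k z := .of_finite k z
  set P := minpoly k z with hP
  have hPdeg : P.natDegree = d := by
    rw [hP, ← IntermediateField.adjoin.finrank hzint, hz', IntermediateField.finrank_top']
  have hPchar : (Algebra.leftMulMatrix bs z).charpoly = P := by
    refine Polynomial.eq_of_monic_of_dvd_of_natDegree_le (minpoly.monic hzint)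
      (Matrix.charpoly_monic _) (minpoly.dvd k z ?_) ?_
    · apply Algebra.leftMulMatrix_injective bs
      rw [← Polynomial.aeval_algHom_apply, Matrix.aeval_self_charpoly, map_zero]
    · rw [Matrix.charpoly_natDegree_eq_dim, Fintype.card_fin, hPdeg]
  let full : k → Option (Option (Fin d)) → k := fun e j => j.elim e fun j' => j'.elim s cc
  have hfull : ∀ e : k, Nm k (full e) = P.eval e := by
    intro e
    rw [← hPchar, Matrix.eval_charpoly]
    simp only [Nm, Algebra.algebraMap_self, RingHom.coe_id, Matrix.map_id, id_eq]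
    congr 1
    rw [hz, map_neg, sub_neg_eq_add, map_add, hy, map_sum]
    simp only [map_smul, Fintype.sum_option, full, Mat, E, Option.elim_none, Option.elim_some, map_one]
    rw [show Matrix.scalar (Fin d) e = e • (1 : Matrix (Fin d) (Fin d) k) from
      (Matrix.smul_one_eq_diagonal e).symm]
    abel
  -- the places bad for the polynomial
  obtain ⟨B, hB⟩ := exists_finite_bad z hz'
  have hint : ∀ v : 𝔓, v ∉ T₁ → v ≠ v₀ → ∀ e : k, v.valuation k e ≤ 1 →
      v.valuation k (P.eval e) ≤ 1 := by
    intro v hv hv' e he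
    rw [← hfull]
    have hS : ∀ x ∈ S₀, v.valuation k x ≤ 1 := by
      intro x hx
      by_contra hlt
      exact hv (Finset.mem_erase.2 ⟨hv', Finset.mem_union_left _ (Finset.mem_union_right _
        ((finite_not_integral S₀).mem_toFinset.2 ⟨x, hx, hlt⟩))⟩)
    simp only [Nm, Matrix.det_apply]
    refine Valuation.map_sum_le _ fun σ _ => ?_
    rw [Units.smul_def, zsmul_eq_mul, map_mul, map_prod]
    refine mul_le_one' ?_ (Finset.prod_le_one (fun _ _ => zero_le') fun i _ => ?_)
    · rcases Int.units_eq_one_or (Equiv.Perm.sign σ) with h | h <;> simp [h]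
    · rw [Matrix.sum_apply]
      refine Valuation.map_sum_le _ fun j _ => ?_
      rw [Matrix.smul_apply, Matrix.map_apply, Algebra.algebraMap_self, RingHom.id_apply,
        smul_eq_mul, map_mul]
      refine mul_le_one' ?_ (hS _ (Finset.mem_biUnion.2 ⟨j, Finset.mem_univ _,
        Finset.mem_image.2 ⟨(σ i, i), Finset.mem_univ _, rfl⟩⟩))
      rcases j with _ | _ | j
      · exact he
      · exact hsint v hv hv'
      · exact hccint j v hv hv'
  have hnonroot : ∀ v : 𝔓, ∃ j : ℕ, v ∉ T₁ → v ≠ v₀ → v.valuation k (P.eval (j : k)) = 1 := by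
    intro v
    by_contra! hcon
    obtain ⟨hv, hv', -⟩ := hcon 0
    have hn : ∀ n : ℕ, v.valuation k (n : k) ≤ 1 := fun n => by
      rw [← map_natCast (algebraMap (NumberField.RingOfIntegers k) k)]; exact v.valuation_le_one _
    have hall : ∀ n : ℕ, v.valuation k (P.eval (n : k)) < 1 := fun n =>
      lt_of_le_of_ne (hint v hv hv' _ (hn n)) (hcon n).2.2
    -- the reduction of `P` would have `d + 1` roots
    let A := (v.valuation k).valuationSubring
    have hmemA : ∀ x : k, x ∈ A ↔ v.valuation k x ≤ 1 := fun x => Iff.rfl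
    obtain ⟨PA, hPA⟩ : ∃ PA : Polynomial A, PA.map A.subtype = P := by
      refine (Polynomial.mem_lifts _).1 ((Polynomial.lifts_iff_coeff_lifts _).2 fun i => ?_)
      refine ⟨⟨P.coeff i, (hmemA _).2 ?_⟩, rfl⟩
      rw [← hPchar]
      have hMA : ∀ a b, Algebra.leftMulMatrix bs z a b ∈ A := by
        intro a b
        have hsum : Algebra.leftMulMatrix bs z = -(∑ i, cc i • Mat (some (some i)) + s • Mat (some none)) := by
          simp only [hz, hy, map_neg, map_add, map_sum, map_smul, Mat, E, Option.elim_some, Option.elim_none]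
        rw [hsum, Matrix.neg_apply, Matrix.add_apply, Matrix.sum_apply]
        have hS : ∀ j, Mat j a b ∈ A := fun j => by
          rw [hmemA]
          by_contra hlt
          exact hv (Finset.mem_erase.2 ⟨hv', Finset.mem_union_left _ (Finset.mem_union_right _
            ((finite_not_integral S₀).mem_toFinset.2 ⟨Mat j a b, Finset.mem_biUnion.2 ⟨j, Finset.mem_univ _,
              Finset.mem_image.2 ⟨(a, b), Finset.mem_univ _, rfl⟩⟩, hlt⟩))⟩)
        refine neg_mem (add_mem (sum_mem fun i _ => ?_) ?_)
        · rw [Matrix.smul_apply, smul_eq_mul]; exact mul_mem ((hmemA _).2 (hccint i v hv hv')) (hS _)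
        · rw [Matrix.smul_apply, smul_eq_mul]; exact mul_mem ((hmemA _).2 (hsint v hv hv')) (hS _)
      let MA : Matrix (Fin d) (Fin d) A := fun a b => ⟨_, hMA a b⟩
      have : Algebra.leftMulMatrix bs z = MA.map A.subtype := rfl
      rw [this, Matrix.charpoly_map, Polynomial.coeff_map]
      exact (hmemA _).1 (MA.charpoly.coeff i).2
    have hdeg : PA.natDegree = d := by
      rw [← hPdeg, ← hPA]
      exact (Polynomial.natDegree_map_eq_of_injective A.subtype_injective _).symm
    have hmon : PA.Monic := Polynomial.monic_of_injective A.subtype_injective (by rw [hPA]; exact minpoly.monic hzint)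
    let π := IsLocalRing.residue A
    have hz1 : ∀ n : ℕ, (PA.map π).eval (n : IsLocalRing.ResidueField A) = 0 := fun n => by
      rw [← map_natCast π, Polynomial.eval_map, Polynomial.eval₂_at_apply, IsLocalRing.residue_eq_zero_iff,
        IsLocalRing.mem_maximalIdeal, mem_nonunits_iff]
      intro hu
      obtain ⟨u, hu⟩ := hu
      refine not_le.2 (hall n) ?_
      have h1 : P.eval (n : k) = ((PA.eval (n : A) : A) : k) := by
        rw [← hPA, Polynomial.eval_map, ← map_natCast A.subtype, Polynomial.eval₂_at_apply]; rfl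
      rw [h1, ← hu]
      calc (1 : WithZero (Multiplicative ℤ)) = v.valuation k ((u : A) : k) * v.valuation k (((u⁻¹ : Aˣ) : A) : k) := by
            rw [← map_mul, show ((u : A) : k) * (((u⁻¹ : Aˣ) : A) : k) = 1 from
              congrArg Subtype.val u.mul_inv, map_one]
        _ ≤ v.valuation k ((u : A) : k) * 1 := mul_le_mul' le_rfl ((hmemA _).1 ((u⁻¹ : Aˣ) : A).2)
        _ = _ := mul_one _
    have hinj : Set.InjOn (fun n : ℕ => (n : IsLocalRing.ResidueField A)) (Finset.range (d + 1) : Finset ℕ) := by
      suffices key : ∀ n n' : ℕ, n < n' → n' ≤ d →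
          (n : IsLocalRing.ResidueField A) ≠ (n' : IsLocalRing.ResidueField A) by
        intro n hn' n' hn'' h
        simp only [Finset.coe_range, Set.mem_Iio] at hn' hn''
        rcases lt_trichotomy n n' with hlt | heq | hgt
        · exact absurd h (key n n' hlt (by omega))
        · exact heq
        · exact absurd h.symm (key n' n hgt (by omega))
      intro n n' hlt hn'' h
      have hunit : IsUnit (((n' - n : ℕ) : A)) := by
        have hdvd : n' - n ∣ d.factorial := Nat.dvd_factorial (by omega) (by omega)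
        have hv1 : v.valuation k ((d.factorial : ℕ) : k) = 1 := by
          rw [← map_natCast (algebraMap (NumberField.RingOfIntegers k) k), v.valuation_eq_one_iff_notMem]
          exact fun h => hv (Finset.mem_erase.2 ⟨hv', Finset.mem_union_right _
            ((finite_places_mem hfac).mem_toFinset.2 h)⟩)
        have hu : IsUnit ((d.factorial : ℕ) : A) := by
          refine IsUnit.of_mul_eq_one ⟨((d.factorial : ℕ) : k)⁻¹, (hmemA _).2 ?_⟩ (Subtype.ext ?_)
          · rw [map_inv₀, hv1, inv_one]
          · push_cast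
            exact mul_inv_cancel₀ (Nat.cast_ne_zero.2 d.factorial_ne_zero)
        exact isUnit_of_dvd_unit (Nat.cast_dvd_cast hdvd) hu
      have := (hunit.map π).ne_zero
      rw [map_natCast, Nat.cast_sub hlt.le] at this
      exact this (sub_eq_zero.2 h.symm)
    have hle := Polynomial.card_le_degree_of_subset_roots (p := PA.map π)
      (Z := (Finset.range (d + 1)).image fun n : ℕ => (n : IsLocalRing.ResidueField A)) (by
        intro x hx
        rw [Finset.mem_val] at hx
        obtain ⟨n, -, rfl⟩ := Finset.mem_image.1 hx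
        exact (Polynomial.mem_roots (hmon.map π).ne_zero).2 (hz1 n))
    rw [Finset.card_image_of_injOn hinj, Finset.card_range, hmon.natDegree_map, hdeg] at hle
    omega
  choose jn hjn using hnonroot
  let T₂ : Finset 𝔓 := T₁ ∪ B.erase v₀
  have hv₀T₂ : v₀ ∉ T₂ := Finset.notMem_union.2 ⟨hv₀T, Finset.notMem_erase _ _⟩
  obtain ⟨e, hef, hei, heint⟩ := exists_strong_approx_nhds v₀ T₂ hv₀T₂
    (fun v => if v ∈ T₁ then cf v none else algebraMap k _ ((jn v : ℕ) : k))
    (fun v => if v ∈ T₁ then Bf v none else
      {x | Valued.v x ≤ 1} ∩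
        {x | Valued.v ((P.map (algebraMap k (v.adicCompletion k))).eval x -
          algebraMap k _ (P.eval ((jn v : ℕ) : k))) < WithZero.exp 0})
    (fun v hv => by
      split_ifs with h
      · exact hBf v none
      · refine Filter.inter_mem ((Valued.isOpen_valuationSubring (v.adicCompletion k)).mem_nhds ?_)
          ((((isOpen_lt_exp v 0).preimage (continuous_id.sub continuous_const)).preimage
            (Polynomial.continuous _)).mem_nhds ?_)
        · refine (Valuation.mem_valuationSubring_iff _ _).2 ?_
          rw [valued_algebraMap, ← map_natCast (algebraMap (NumberField.RingOfIntegers k) k)]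
          exact v.valuation_le_one _
        · simp [Polynomial.eval_map, Polynomial.eval₂_at_apply])
    (fun w => ci w none) (fun w => Bi w none) (fun w => hBi w none)
  refine ⟨P.eval e, ?_, fun v hv => ?_, fun w hw => ?_, ?_⟩
  · obtain ⟨w⟩ : Nonempty (InfinitePlace k) := inferInstance
    intro h0
    refine ((hNi w (fun j => algebraMap k _ (full e j)) fun j => ?_).2) (by rw [hnat, hfull, h0, map_zero])
    rcases j with _ | _ | j
    · exact hei w
    · exact hsi' w
    · exact hcci j w
  · rw [← hfull, ← hnat]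
    refine (hNf v _ fun j => ?_).1 hv
    rcases j with _ | _ | j
    · have := hef v (Finset.mem_union_left _ (hSfT hv))
      rwa [if_pos (hSfT hv)] at this
    · exact hsf v (hSfT hv)
    · exact hccf j v (hSfT hv)
  · rw [← hfull, ← hnat]
    refine (hNi w _ fun j => ?_).1 hw
    rcases j with _ | _ | j
    · exact hei w
    · exact hsi' w
    · exact hcci j w
  · have hone : ∀ v, v ∈ T₂ → v ∉ Sf → v.valuation k (P.eval e) = 1 := by
      intro v hv hvS
      by_cases hv1 : v ∈ T₁
      · rw [← hfull, ← valued_algebraMap, ← hnat]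
        refine (hNf v _ fun j => ?_).2 hvS
        rcases j with _ | _ | j
        · have := hef v hv
          rwa [if_pos hv1] at this
        · exact hsf v hv1
        · exact hccf j v hv1
      · have h := hef v hv
        rw [if_neg hv1] at h
        have hv' : v ≠ v₀ := fun h => hv₀T₂ (h ▸ hv)
        have h2 := h.2
        simp only [Set.mem_setOf_eq, Polynomial.eval_map, Polynomial.eval₂_at_apply] at h2
        have h3 : Valued.v (algebraMap k (v.adicCompletion k) (P.eval ((jn v : ℕ) : k))) = 1 := by
          rw [valued_algebraMap]; exact hjn v hv1 hv'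
        rw [← valued_algebraMap, ← h3]
        exact Valuation.map_eq_of_sub_lt _ (by rwa [h3, ← WithZero.exp_zero])
    refine ⟨fun v hv hv' => ?_, fun v hv => ?_⟩
    · by_cases hv2 : v ∈ T₂
      · exact (hone v hv2 hv).le
      · exact hint v (fun h => hv2 (Finset.mem_union_left _ h)) hv' e (heint v hv2 hv')
    · rcases eq_or_ne v v₀ with rfl | hv'
      · exact Or.inr hLv₀
      by_cases hv2 : v ∈ T₂
      · exact Or.inl (hone v hv2 hv)
      · have hv1 : v ∉ T₁ := fun h => hv2 (Finset.mem_union_left _ h)
        have hvB : v ∉ B := fun h => hv2 (Finset.mem_union_right _ (Finset.mem_erase.2 ⟨hv', h⟩))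
        have he := heint v hv2 hv'
        rcases (hint v hv1 hv' e he).lt_or_eq with hlt | heq
        · exact Or.inr ((hB v hvB).2 e he hlt)
        · exact Or.inl heq

end Groth.Agent.NFApprox
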