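import Groth.Agent.NFApprox.Strong
import Groth.Agent.NFApprox.NearUnit
import Groth.Agent.BertiniAff.Basic
import Mathlib.Algebra.MvPolynomial.Equiv
import Mathlib.Algebra.MvPolynomial.Funext
import Mathlib.RingTheory.KrullDimension.Polynomial

/-!
# Strong approximation for complements of closed subsets of codimension two of affine space
-/

universe u

open IsDedekindDomain NumberField Filter Topology

namespace Groth.Agent.NFApprox

variable {k : Type u} [Field k]

theorem valuation_eval_le {F : Type*} [CommRing F] [Algebra k F] {Γ : Type*}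
    [LinearOrderedCommMonoidWithZero Γ] (val : Valuation F Γ) {n : ℕ} (f : MvPolynomial (Fin n) k)
    (x : Fin n → F) (hc : ∀ d, val (algebraMap k F (MvPolynomial.coeff d f)) ≤ 1)
    (hx : ∀ i, val (x i) ≤ 1) : val (MvPolynomial.aeval x f) ≤ 1 := by
  rw [MvPolynomial.aeval_def, MvPolynomial.eval₂_eq']
  refine Valuation.map_sum_le _ fun d _ => ?_
  rw [map_mul, map_prod]
  refine mul_le_one' (hc d) (Finset.prod_le_one (fun _ _ => zero_le') fun i _ => ?_)
  rw [map_pow]
  exact pow_le_one' (hx i) _

/-- Decomposition along the first variable. -/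
theorem decomp {n : ℕ} (f : MvPolynomial (Fin (n + 1)) k) {D : ℕ} (hD : f.totalDegree ≤ D) :
    f = ∑ i ∈ Finset.range (D + 1),
      MvPolynomial.rename Fin.succ ((MvPolynomial.finSuccEquiv k n f).coeff i) * MvPolynomial.X 0 ^ i := by
  classical
  have hC : ∀ p : MvPolynomial (Fin n) k,
      MvPolynomial.finSuccEquiv k n (MvPolynomial.rename Fin.succ p) = Polynomial.C p := by
    intro p
    induction p using MvPolynomial.induction_on with
    | C a => simp [MvPolynomial.finSuccEquiv_apply]
    | add p q hp hq => simp [hp, hq]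
    | mul_X p i hp => simp [hp, MvPolynomial.finSuccEquiv_X_succ]
  refine (MvPolynomial.finSuccEquiv k n).injective ?_
  rw [map_sum]
  conv_lhs => rw [Polynomial.as_sum_range' (MvPolynomial.finSuccEquiv k n f) (D + 1) (by
    rw [MvPolynomial.natDegree_finSuccEquiv]
    have := (MvPolynomial.degreeOf_le_totalDegree f 0).trans hD
    omega)]
  refine Finset.sum_congr rfl fun i _ => ?_
  rw [map_mul, map_pow, hC, MvPolynomial.finSuccEquiv_X_zero, Polynomial.C_mul_X_pow_eq_monomial]

theorem cons_dec {n : ℕ} {F : Type*} [CommRing F] [Algebra k F] (f : MvPolynomial (Fin (n + 1)) k) {D : ℕ}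
    (hD : f.totalDegree ≤ D) (y : F) (s : Fin n → F) :
    MvPolynomial.aeval (Fin.cons y s : Fin (n + 1) → F) f = ∑ i ∈ Finset.range (D + 1),
      MvPolynomial.aeval s ((MvPolynomial.finSuccEquiv k n f).coeff i) * y ^ i := by
  conv_lhs => rw [decomp f hD]
  rw [map_sum]
  refine Finset.sum_congr rfl fun i _ => ?_
  rw [map_mul, map_pow, MvPolynomial.aeval_X, Fin.cons_zero, MvPolynomial.aeval_rename]
  congr 2

/-- The polynomial in the first variable obtained by fixing the others. -/
noncomputable def fixRest {n : ℕ} (s : Fin n → k) : MvPolynomial (Fin (n + 1)) k →ₐ[k] Polynomial k :=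
  MvPolynomial.aeval (Fin.cons Polynomial.X (fun i => Polynomial.C (s i)) : Fin (n + 1) → Polynomial k)

theorem eval_fixRest {n : ℕ} (s : Fin n → k) (f : MvPolynomial (Fin (n + 1)) k) (y : k) :
    (fixRest s f).eval y = MvPolynomial.aeval (Fin.cons y s : Fin (n + 1) → k) f := by
  rw [← Polynomial.coe_aeval_eq_eval, fixRest, ← AlgHom.comp_apply, MvPolynomial.comp_aeval]
  congr 2
  funext i
  refine Fin.cases ?_ (fun i => ?_) i <;> simp

variable [NumberField k]

local notation "𝔓" => HeightOneSpectrum (NumberField.RingOfIntegers k)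

/-- An integral polynomial with a unit coefficient takes a unit value at a small natural number. -/
theorem exists_nat_eval_unit (v : 𝔓) (G : Polynomial k) (D : ℕ) (hdeg : G.natDegree ≤ D)
    (hc : ∀ i, v.valuation k (G.coeff i) ≤ 1) (hu : ∃ i, v.valuation k (G.coeff i) = 1)
    (hfac : v.valuation k ((D.factorial : ℕ) : k) = 1) :
    ∃ m : ℕ, v.valuation k (G.eval (m : k)) = 1 := by
  classical
  by_contra! hcon
  let O := (v.valuation k).valuationSubring
  obtain ⟨GA, hGA⟩ : ∃ GA : Polynomial O, GA.map O.subtype = G := by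
    refine (Polynomial.mem_lifts _).1 ((Polynomial.lifts_iff_coeff_lifts _).2 fun i => ?_)
    exact ⟨⟨G.coeff i, hc i⟩, rfl⟩
  let π := IsLocalRing.residue O
  have hunitO : ∀ x : O, v.valuation k (x : k) = 1 → IsUnit x := by
    intro x hx
    have hx0 : (x : k) ≠ 0 := fun h => by simp [h] at hx
    exact IsUnit.of_mul_eq_one ⟨(x : k)⁻¹, (Valuation.mem_valuationSubring_iff _ _).2 (by
      rw [map_inv₀, hx, inv_one])⟩ (Subtype.ext (mul_inv_cancel₀ hx0))
  obtain ⟨i₀, hi₀⟩ := hu
  have hred : GA.map π ≠ 0 := fun h0 => by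
    have h1 := congrArg (fun p => Polynomial.coeff p i₀) h0
    simp only [Polynomial.coeff_map, Polynomial.coeff_zero] at h1
    refine (IsLocalRing.residue_ne_zero_iff_isUnit _).2 (hunitO _ ?_) h1
    rw [show ((GA.coeff i₀ : O) : k) = G.coeff i₀ by rw [← hGA, Polynomial.coeff_map]; rfl]
    exact hi₀
  have hdeg' : (GA.map π).natDegree ≤ D := by
    refine (Polynomial.natDegree_map_le).trans ?_
    rw [← Polynomial.natDegree_map_eq_of_injective O.subtype_injective, hGA]
    exact hdeg
  have hroot : ∀ m : ℕ, (GA.map π).eval (m : IsLocalRing.ResidueField O) = 0 := fun m => by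
    by_contra hne0
    rw [← map_natCast π, Polynomial.eval_map, Polynomial.eval₂_at_apply, ← Ne,
      IsLocalRing.residue_ne_zero_iff_isUnit] at hne0
    refine hcon m ?_
    obtain ⟨u, hu⟩ := hne0
    have h1 : G.eval (m : k) = ((GA.eval (m : O) : O) : k) := by
      rw [← hGA, Polynomial.eval_map, ← map_natCast O.subtype, Polynomial.eval₂_at_apply]; rfl
    rw [h1, ← hu]
    refine le_antisymm (u : O).2 ?_
    calc (1 : WithZero (Multiplicative ℤ)) = v.valuation k ((u : O) : k) * v.valuation k (((u⁻¹ : Oˣ) : O) : k) := by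
          rw [← map_mul, show ((u : O) : k) * (((u⁻¹ : Oˣ) : O) : k) = 1 from
            congrArg Subtype.val u.mul_inv, map_one]
      _ ≤ v.valuation k ((u : O) : k) * 1 := mul_le_mul' le_rfl ((u⁻¹ : Oˣ) : O).2
      _ = _ := mul_one _
  have key : ∀ m m' : ℕ, m < m' → m' ≤ D →
      (m : IsLocalRing.ResidueField O) ≠ (m' : IsLocalRing.ResidueField O) := by
    intro m m' hlt hm' h
    have hu : IsUnit ((m' - m : ℕ) : O) := by
      refine isUnit_of_dvd_unit (Nat.cast_dvd_cast (Nat.dvd_factorial (by omega) (by omega : m' - m ≤ D)))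
        (hunitO _ ?_)
      push_cast
      exact hfac
    have := (hu.map π).ne_zero
    rw [map_natCast, Nat.cast_sub hlt.le] at this
    exact this (sub_eq_zero.2 h.symm)
  have hle := Polynomial.card_le_degree_of_subset_roots (p := GA.map π)
    (Z := (Finset.range (D + 1)).image fun m : ℕ => (m : IsLocalRing.ResidueField O)) (by
      intro x hx
      rw [Finset.mem_val] at hx
      obtain ⟨m, -, rfl⟩ := Finset.mem_image.1 hx
      exact (Polynomial.mem_roots hred).2 (hroot m))
  rw [Finset.card_image_of_injOn, Finset.card_range] at hle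
  · omega
  · intro m hm m' hm' h
    simp only [Finset.coe_range, Set.mem_Iio] at hm hm'
    rcases lt_trichotomy m m' with hlt | he | hgt
    · exact absurd h (key m m' hlt (by omega))
    · exact he
    · exact absurd h.symm (key m' m hgt (by omega))

omit [NumberField k] in
theorem fixRest_eq {n : ℕ} (s : Fin n → k) (f : MvPolynomial (Fin (n + 1)) k) {D : ℕ} (hD : f.totalDegree ≤ D) :
    fixRest s f = ∑ i ∈ Finset.range (D + 1),
      Polynomial.C (MvPolynomial.aeval s ((MvPolynomial.finSuccEquiv k n f).coeff i)) * Polynomial.X ^ i := by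
  rw [fixRest, cons_dec f hD]
  refine Finset.sum_congr rfl fun i _ => ?_
  rw [← Polynomial.algebraMap_eq, ← MvPolynomial.aeval_algebraMap_apply]
  rfl

omit [NumberField k] in
theorem coeff_fixRest {n : ℕ} (s : Fin n → k) (f : MvPolynomial (Fin (n + 1)) k) {D : ℕ} (hD : f.totalDegree ≤ D)
    (i : ℕ) : (fixRest s f).coeff i = if i < D + 1 then
      MvPolynomial.aeval s ((MvPolynomial.finSuccEquiv k n f).coeff i) else 0 := by
  rw [fixRest_eq s f hD, Polynomial.finsetSum_coeff]
  simp only [Polynomial.coeff_C_mul_X_pow, Finset.sum_ite_eq, Finset.mem_range]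

omit [NumberField k] in
theorem natDegree_fixRest {n : ℕ} (s : Fin n → k) (f : MvPolynomial (Fin (n + 1)) k) {D : ℕ}
    (hD : f.totalDegree ≤ D) : (fixRest s f).natDegree ≤ D := by
  rw [fixRest_eq s f hD]
  exact Polynomial.natDegree_sum_le_of_forall_le _ _ fun i hi =>
    (Polynomial.natDegree_C_mul_X_pow_le _ _).trans (Nat.lt_succ_iff.1 (Finset.mem_range.1 hi))

theorem dim_cancel {a : WithBot ℕ∞} {n : ℕ} (h : a + 2 + 1 ≤ (n : WithBot ℕ∞) + 1) :
    a + 2 ≤ (n : WithBot ℕ∞) := by
  induction a using WithBot.recBotCoe with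
  | bot => simp
  | coe b =>
    rw [← WithBot.coe_ofNat (α := ℕ∞) 2, ← WithBot.coe_one, ← WithBot.coe_natCast, ← WithBot.coe_add,
      ← WithBot.coe_add, ← WithBot.coe_add, WithBot.coe_le_coe] at h
    rw [← WithBot.coe_ofNat (α := ℕ∞) 2, ← WithBot.coe_natCast, ← WithBot.coe_add, WithBot.coe_le_coe]
    exact (WithTop.add_le_add_iff_right WithTop.one_ne_top).1 h

/-- A neighbourhood in an archimedean completion contains infinitely many elements of `k`. -/
theorem infinite_mem_nhds (w : InfinitePlace k) {a : w.Completion} {U : Set w.Completion} (hU : U ∈ 𝓝 a) :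
    {x : k | algebraMap k w.Completion x ∈ U}.Infinite := by
  intro hfin
  have hdense : DenseRange (algebraMap k w.Completion) :=
    (InfinitePlace.Completion.denseRange_coe w).comp
      (WithAbs.equiv w.1).symm.surjective.denseRange (InfinitePlace.Completion.continuous_coe w)
  have hp : a ∈ interior U := mem_interior_iff_mem_nhds.2 hU
  set F := algebraMap k w.Completion '' {x : k | algebraMap k w.Completion x ∈ U} with hF
  rcases (interior U \ F).eq_empty_or_nonempty with he | hn
  · refine (Set.Infinite.mono (Set.sdiff_eq_empty.1 he) ?_) (hfin.image _)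
    have hseq : Tendsto (fun m : ℕ => a + algebraMap k w.Completion (1 / ((m : k) + 1))) atTop (𝓝 a) := by
      conv => arg 3; rw [← add_zero a]
      refine tendsto_const_nhds.add (tendsto_zero_iff_norm_tendsto_zero.2 ?_)
      refine tendsto_one_div_add_atTop_nhds_zero_nat.congr fun m => ?_
      rw [InfinitePlace.Completion.algebraMap_apply, InfinitePlace.Completion.norm_coe]
      show _ = w (1 / ((m : k) + 1))
      rw [← InfinitePlace.norm_embedding_eq, map_div₀, map_one, map_add, map_one, map_natCast,
        norm_div, norm_one, show (m : ℂ) + 1 = ((m + 1 : ℕ) : ℂ) by push_cast; ring, Complex.norm_natCast]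
      push_cast
      rfl
    obtain ⟨N, hN⟩ := Filter.eventually_atTop.1 (hseq.eventually_mem (isOpen_interior.mem_nhds hp))
    refine (Set.infinite_range_of_injective (f := fun m : ℕ =>
      a + algebraMap k w.Completion (1 / (((N + m : ℕ) : k) + 1))) ?_).mono ?_
    · intro m m' h
      have h2 := (algebraMap k w.Completion).injective (add_left_cancel h)
      rw [one_div, one_div, inv_inj, add_left_inj, Nat.cast_inj] at h2
      omega
    · rintro _ ⟨m, rfl⟩
      exact hN (N + m) (Nat.le_add_right N m)
  · obtain ⟨x, hx⟩ := hdense.exists_mem_open (isOpen_interior.sdiff (hfin.image _).isClosed) hn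
    exact hx.2 ⟨x, (interior_subset (s := U) hx.1 :), rfl⟩

theorem near_eval_mem_nhds (v : 𝔓) (G : Polynomial k) (m : ℕ) :
    {x : v.adicCompletion k | Valued.v x ≤ 1} ∩
      {x | Valued.v ((G.map (algebraMap k (v.adicCompletion k))).eval x -
        algebraMap k (v.adicCompletion k) (G.eval (m : k))) < WithZero.exp 0} ∈
      𝓝 (algebraMap k (v.adicCompletion k) (m : k)) := by
  refine Filter.inter_mem ?_ ?_
  · have ho : IsOpen {x : v.adicCompletion k | Valued.v x ≤ 1} :=
      Valued.isOpen_valuationSubring (v.adicCompletion k)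
    refine ho.mem_nhds ?_
    show Valued.v (algebraMap k (v.adicCompletion k) (m : k)) ≤ 1
    rw [valued_algebraMap, ← map_natCast (algebraMap (NumberField.RingOfIntegers k) k)]
    exact v.valuation_le_one _
  · have hc : Continuous fun x : v.adicCompletion k =>
        (G.map (algebraMap k (v.adicCompletion k))).eval x -
          algebraMap k (v.adicCompletion k) (G.eval (m : k)) :=
      (Polynomial.continuous _).sub continuous_const
    refine ((isOpen_lt_exp v 0).preimage hc).mem_nhds ?_
    simp [Polynomial.eval_map, Polynomial.eval₂_at_apply]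

set_option maxHeartbeats 4000000 in
/-- Points of the complement which are integral away from `T ∪ {v₀}` and lie in given boxes. -/
theorem exists_point {n : ℕ} : ∀ {J : Type} [Fintype J] (f : J → MvPolynomial (Fin n) k),
    (∀ j d (v : 𝔓), v.valuation k (MvPolynomial.coeff d (f j)) ≤ 1) →
    ringKrullDim (MvPolynomial (Fin n) k ⧸ Ideal.span (Set.range f)) + 2 ≤ (n : WithBot ℕ∞) →
    ∀ (v₀ : 𝔓) (T : Finset 𝔓), v₀ ∉ T →
    (∀ v ∉ T, v ≠ v₀ → ∃ R : Fin n → v.adicCompletion k, (∀ i, Valued.v (R i) ≤ 1) ∧
      ∃ j, Valued.v (MvPolynomial.aeval R (f j)) = 1) →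
    ∀ (af : (v : 𝔓) → Fin n → v.adicCompletion k) (Uf : (v : 𝔓) → Fin n → Set (v.adicCompletion k)),
    (∀ v ∈ T, ∀ i, Uf v i ∈ 𝓝 (af v i)) →
    ∀ (ai : (w : InfinitePlace k) → Fin n → w.Completion) (Ui : (w : InfinitePlace k) → Fin n → Set w.Completion),
    (∀ w i, Ui w i ∈ 𝓝 (ai w i)) →
    ∃ P : Fin n → k, (∀ v ∈ T, ∀ i, algebraMap k (v.adicCompletion k) (P i) ∈ Uf v i) ∧
      (∀ w i, algebraMap k w.Completion (P i) ∈ Ui w i) ∧
      ∀ v ∉ T, v ≠ v₀ → (∀ i, v.valuation k (P i) ≤ 1) ∧
        ∃ j, v.valuation k (MvPolynomial.aeval P (f j)) = 1 := by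
  induction n with
  | zero =>
    intro J _ f _ _ v₀ T _ hne af Uf _ ai Ui _
    refine ⟨Fin.elim0, fun v _ i => i.elim0, fun w i => i.elim0, fun v hv hv' => ⟨fun i => i.elim0, ?_⟩⟩
    obtain ⟨R, -, j, hj⟩ := hne v hv hv'
    refine ⟨j, ?_⟩
    rw [← valued_algebraMap, ← hj, ← MvPolynomial.aeval_algebraMap_apply]
    congr 2
    exact congrArg MvPolynomial.aeval (funext fun i => i.elim0)
  | succ n ih =>
    intro J _ f hint hdim v₀ T hv₀ hne af Uf hUf ai Ui hUi
    classical
    let D : ℕ := Finset.univ.sup fun j => (f j).totalDegree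
    have hD : ∀ j, (f j).totalDegree ≤ D := fun j =>
      Finset.le_sup (f := fun j => (f j).totalDegree) (Finset.mem_univ j)
    let f' : J × Fin (D + 1) → MvPolynomial (Fin n) k :=
      fun p => (MvPolynomial.finSuccEquiv k n (f p.1)).coeff p.2
    have hint' : ∀ p d (v : 𝔓), v.valuation k (MvPolynomial.coeff d (f' p)) ≤ 1 := fun p d v => by
      simp only [f', MvPolynomial.finSuccEquiv_coeff_coeff]
      exact hint _ _ v
    -- dimension of the locus of lines contained in the closed subset
    have hdim' : ringKrullDim (MvPolynomial (Fin n) k ⧸ Ideal.span (Set.range f')) + 2 ≤ (n : WithBot ℕ∞) := by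
      let A' := MvPolynomial (Fin n) k ⧸ Ideal.span (Set.range f')
      let φ : MvPolynomial (Fin (n + 1)) k →+* Polynomial A' :=
        (Polynomial.mapRingHom (Ideal.Quotient.mk _)).comp (MvPolynomial.finSuccEquiv k n).toRingEquiv.toRingHom
      have hφ : Function.Surjective φ := (Polynomial.map_surjective _ Ideal.Quotient.mk_surjective).comp
        (MvPolynomial.finSuccEquiv k n).surjective
      have hker : ∀ x ∈ Ideal.span (Set.range f), φ x = 0 := by
        intro x hx
        have : Ideal.span (Set.range f) ≤ RingHom.ker φ := by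
          rw [Ideal.span_le]
          rintro _ ⟨j, rfl⟩
          rw [SetLike.mem_coe, RingHom.mem_ker]
          ext i
          show (Polynomial.map (Ideal.Quotient.mk _) (MvPolynomial.finSuccEquiv k n (f j))).coeff i = _
          rw [Polynomial.coeff_map, Polynomial.coeff_zero, Ideal.Quotient.eq_zero_iff_mem]
          by_cases hi : i < D + 1
          · exact Ideal.subset_span ⟨(j, ⟨i, hi⟩), rfl⟩
          · rw [Polynomial.coeff_eq_zero_of_natDegree_lt]
            · exact Ideal.zero_mem _
            rw [MvPolynomial.natDegree_finSuccEquiv]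
            have := (MvPolynomial.degreeOf_le_totalDegree (f j) 0).trans (hD j)
            omega
        exact this hx
      have h1 : ringKrullDim (Polynomial A') ≤
          ringKrullDim (MvPolynomial (Fin (n + 1)) k ⧸ Ideal.span (Set.range f)) :=
        ringKrullDim_le_of_surjective (Ideal.Quotient.lift _ φ hker) (Ideal.Quotient.lift_surjective_of_surjective _ hker hφ)
      have h2 : ringKrullDim A' + 1 ≤ ringKrullDim (Polynomial A') := ringKrullDim_succ_le_ringKrullDim_polynomial
      have h3 := (add_le_add (h2.trans h1) (le_refl (2 : WithBot ℕ∞))).trans hdim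
      rw [add_right_comm, Nat.cast_succ] at h3
      exact dim_cancel h3
    -- a nonzero polynomial in the other variables in the ideal
    obtain ⟨g, hg0, hgI⟩ : ∃ g : MvPolynomial (Fin n) k, g ≠ 0 ∧
        MvPolynomial.rename Fin.succ g ∈ Ideal.span (Set.range f) := by
      by_contra! hcon
      let q : MvPolynomial (ULift.{u} (Fin n)) k →ₐ[k] MvPolynomial (Fin (n + 1)) k ⧸ Ideal.span (Set.range f) :=
        ((Ideal.Quotient.mkₐ k _).comp (MvPolynomial.rename Fin.succ)).comp
          (MvPolynomial.renameEquiv k Equiv.ulift).toAlgHom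
      have hq : Function.Injective q := by
        refine (injective_iff_map_eq_zero q).2 fun x hx => ?_
        by_contra hx0
        refine hcon (MvPolynomial.renameEquiv k Equiv.ulift x) ?_ (Ideal.Quotient.eq_zero_iff_mem.1 hx)
        exact fun h => hx0 ((MvPolynomial.renameEquiv k Equiv.ulift).injective (h.trans (map_zero _).symm))
      have h1 := BertiniAff.le_ringKrullDim_of_injective q hq
      rw [Fintype.card_ulift, Fintype.card_fin] at h1
      have h2 := (add_le_add h1 (le_refl (2 : WithBot ℕ∞))).trans hdim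
      have h3 : n + 2 ≤ n + 1 := by exact_mod_cast h2
      omega
    -- the small places
    have hfac : ((Nat.factorial D : ℕ) : NumberField.RingOfIntegers k) ≠ 0 := Nat.cast_ne_zero.2 D.factorial_ne_zero
    let Tsm : Finset 𝔓 := ((finite_places_mem hfac).toFinset \ T).erase v₀
    have hsm : ∀ v ∈ Tsm, v ∉ T ∧ v ≠ v₀ := fun v hv => by
      obtain ⟨h1, h2⟩ := Finset.mem_erase.1 hv
      exact ⟨(Finset.mem_sdiff.1 h2).2, h1⟩
    have hbox : ∀ v : 𝔓, ∃ (R : Fin (n + 1) → v.adicCompletion k) (U : Fin (n + 1) → Set (v.adicCompletion k)),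
        (v ∈ T → R = af v ∧ U = Uf v) ∧ (v ∈ T ∪ Tsm → ∀ i, U i ∈ 𝓝 (R i)) ∧
        (v ∈ Tsm → ∀ x, (∀ i, x i ∈ U i) → (∀ i, Valued.v (x i) ≤ 1) ∧
          ∃ j, Valued.v (MvPolynomial.aeval x (f j)) = 1) := by
      intro v
      by_cases hvT : v ∈ T
      · exact ⟨af v, Uf v, fun _ => ⟨rfl, rfl⟩, fun _ => hUf v hvT, fun h => absurd hvT (hsm v h).1⟩
      by_cases hvs : v ∈ Tsm
      · obtain ⟨R, hR, j, hj⟩ := hne v hvT (hsm v hvs).2
        let O : Set (Fin (n + 1) → v.adicCompletion k) := (⋂ i, {x | Valued.v (x i) ≤ 1}) ∩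
          {x | Valued.v (MvPolynomial.aeval x (f j) - MvPolynomial.aeval R (f j)) < WithZero.exp 0}
        have hO : IsOpen O := by
          refine (isOpen_iInter_of_finite fun i =>
            (Valued.isOpen_valuationSubring (v.adicCompletion k)).preimage (continuous_apply i)).inter
            ((isOpen_lt_exp v 0).preimage ((?_ : Continuous fun x : Fin (n + 1) → v.adicCompletion k =>
              MvPolynomial.aeval x (f j)).sub continuous_const))
          simp only [MvPolynomial.aeval_def, MvPolynomial.eval₂_eq']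
          fun_prop
        obtain ⟨I, U, hU, hsub⟩ := isOpen_pi_iff.1 hO R ⟨Set.mem_iInter.2 hR, by simp⟩
        refine ⟨R, fun i => if i ∈ I then U i else Set.univ, fun h => absurd h hvT, fun _ i => ?_,
          fun _ x hx => ?_⟩
        · show (if i ∈ I then U i else Set.univ) ∈ 𝓝 (R i)
          split_ifs with hi
          · exact (hU i hi).1.mem_nhds (hU i hi).2
          · exact Filter.univ_mem
        · obtain ⟨h1, h2⟩ := hsub (show x ∈ (I : Set (Fin (n + 1))).pi U from fun i hi => by
            have := hx i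
            simp only [Finset.mem_coe.1 hi, if_true] at this
            exact this)
          refine ⟨fun i => (Set.mem_iInter.1 h1 i :), j, ?_⟩
          rw [← hj]
          exact Valuation.map_eq_of_sub_lt _ (by rw [hj, ← WithZero.exp_zero]; exact h2)
      · exact ⟨fun _ => 0, fun _ => Set.univ, fun h => absurd h hvT,
          fun h => absurd h (by simp [hvT, hvs]), fun h => absurd h hvs⟩
    choose Rf Bf hRT hBnhds hBunit using hbox
    -- make `g` nonzero at one infinite place
    obtain ⟨w₁⟩ : Nonempty (InfinitePlace k) := inferInstance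
    obtain ⟨c₁, hc₁, hgc₁⟩ : ∃ c : Fin n → w₁.Completion, (∀ i, c i ∈ interior (Ui w₁ i.succ)) ∧
        MvPolynomial.aeval c g ≠ 0 := by
      have hinf : ∀ i : Fin n, {x : k | algebraMap k w₁.Completion x ∈ interior (Ui w₁ i.succ)}.Infinite :=
        fun i => infinite_mem_nhds w₁ (interior_mem_nhds.2 (hUi w₁ i.succ))
      by_contra! hcon
      refine hg0 (MvPolynomial.funext_set _ hinf fun x hx => ?_)
      have := hcon (fun i => algebraMap k w₁.Completion (x i)) fun i => hx i trivial
      rw [map_zero]
      change MvPolynomial.aeval (algebraMap k w₁.Completion ∘ x) g = 0 at this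
      rwa [MvPolynomial.aeval_algebraMap_apply, map_eq_zero, MvPolynomial.aeval_eq_eval] at this
    obtain ⟨I₁, U₁, hU₁, hsub₁⟩ := isOpen_pi_iff.1
      (show IsOpen {x : Fin n → w₁.Completion | MvPolynomial.aeval x g ≠ 0} from
        isOpen_ne.preimage (by simp only [MvPolynomial.aeval_def, MvPolynomial.eval₂_eq']; fun_prop)) c₁ hgc₁
    -- the other coordinates
    have hne' : ∀ v ∉ T ∪ Tsm, v ≠ v₀ → ∃ R : Fin n → v.adicCompletion k, (∀ i, Valued.v (R i) ≤ 1) ∧
        ∃ p, Valued.v (MvPolynomial.aeval R (f' p)) = 1 := by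
      intro v hv hv'
      obtain ⟨R, hR, j, hj⟩ := hne v (fun h => hv (Finset.mem_union_left _ h)) hv'
      refine ⟨Fin.tail R, fun i => hR _, ?_⟩
      by_contra! hcon
      have hlt : ∀ p, Valued.v (MvPolynomial.aeval (Fin.tail R) (f' p)) < 1 := fun p =>
        lt_of_le_of_ne (valuation_eval_le _ _ _ (fun d => by rw [valued_algebraMap]; exact hint' p d v)
          fun i => hR _) (hcon p)
      rw [← Fin.cons_self_tail R, cons_dec (f j) (hD j)] at hj
      refine absurd hj (ne_of_lt (Valuation.map_sum_lt' _ zero_lt_one fun i hi => ?_))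
      rw [map_mul, map_pow]
      exact mul_lt_one_of_nonneg_of_lt_one_left zero_le' (hlt (j, ⟨i, Finset.mem_range.1 hi⟩))
        (pow_le_one' (hR 0) i)
    obtain ⟨s, hsf, hsi, hsout⟩ := ih f' hint' hdim' v₀ (T ∪ Tsm)
      (Finset.notMem_union.2 ⟨hv₀, fun h => (hsm v₀ h).2 rfl⟩) hne'
      (fun v i => Rf v i.succ) (fun v i => Bf v i.succ) (fun v hv i => hBnhds v hv i.succ)
      (Function.update (fun w i => ai w i.succ) w₁ c₁)
      (Function.update (fun w i => Ui w i.succ) w₁
        (fun i => interior (Ui w₁ i.succ) ∩ if i ∈ I₁ then U₁ i else Set.univ))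
      (fun w i => by
        rcases eq_or_ne w w₁ with rfl | hw
        · rw [Function.update_self, Function.update_self]
          refine Filter.inter_mem (isOpen_interior.mem_nhds (hc₁ i)) ?_
          split_ifs with hi
          · exact (hU₁ i hi).1.mem_nhds (hU₁ i hi).2
          · exact Filter.univ_mem
        · rw [Function.update_of_ne hw, Function.update_of_ne hw]; exact hUi w _)
    have hsi' : ∀ w i, algebraMap k w.Completion (s i) ∈ Ui w (Fin.succ i) := by
      intro w i
      have := hsi w i
      rcases eq_or_ne w w₁ with rfl | hw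
      · rw [Function.update_self] at this; exact interior_subset this.1
      · rwa [Function.update_of_ne hw] at this
    have hgs : MvPolynomial.aeval s g ≠ 0 := by
      intro h0
      refine hsub₁ (show (fun i => algebraMap k w₁.Completion (s i)) ∈ (I₁ : Set (Fin n)).pi U₁ from
        fun i hi => ?_) ?_
      · have := hsi w₁ i
        rw [Function.update_self] at this
        simpa only [Finset.mem_coe.1 hi, if_true] using this.2
      · show MvPolynomial.aeval (algebraMap k w₁.Completion ∘ s) g = 0
        rw [MvPolynomial.aeval_algebraMap_apply, h0, map_zero]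
    -- the restricted polynomials generate the unit ideal
    obtain ⟨a, ha⟩ := Ideal.mem_span_range_iff_exists_fun.1 hgI
    let G : J → Polynomial k := fun j => fixRest s (f j)
    let A : J → Polynomial k := fun j => Polynomial.C (MvPolynomial.aeval s g)⁻¹ * fixRest s (a j)
    have hAG : ∑ j, A j * G j = 1 := by
      have h1 := congrArg (fixRest s) ha
      rw [map_sum] at h1
      simp only [A, G, mul_assoc, ← Finset.mul_sum, ← map_mul, h1]
      have h2 : fixRest s (MvPolynomial.rename Fin.succ g) = Polynomial.C (MvPolynomial.aeval s g) := by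
        rw [fixRest, MvPolynomial.aeval_rename, ← Polynomial.algebraMap_eq,
          ← MvPolynomial.aeval_algebraMap_apply]
        rfl
      rw [h2, ← map_mul, inv_mul_cancel₀ hgs, map_one]
    let S : Finset k := Finset.univ.biUnion fun j => (A j).coeffs
    let B : Finset 𝔓 := ((finite_not_integral S).toFinset.erase v₀) \ (T ∪ Tsm)
    have hGc : ∀ v ∉ T ∪ Tsm, v ≠ v₀ → ∀ j i, v.valuation k ((G j).coeff i) ≤ 1 := by
      intro v hv hv' j i
      rw [coeff_fixRest s (f j) (hD j)]
      split_ifs with hi
      · exact valuation_eval_le _ _ _ (fun d => by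
          rw [Algebra.algebraMap_self, RingHom.id_apply]
          exact hint' (j, ⟨i, hi⟩) d v) (hsout v hv hv').1
      · rw [map_zero]; exact zero_le'
    have hex : ∀ v : 𝔓, ∃ m : ℕ, v ∉ T ∪ Tsm → v ≠ v₀ → ∃ j, v.valuation k ((G j).eval (m : k)) = 1 := by
      intro v
      by_cases hv : v ∉ T ∪ Tsm ∧ v ≠ v₀
      · obtain ⟨-, ⟨j, i₀⟩, hunit⟩ := hsout v hv.1 hv.2
        obtain ⟨m, hm⟩ := exists_nat_eval_unit v (G j) D (natDegree_fixRest s (f j) (hD j)) (hGc v hv.1 hv.2 j)
          ⟨i₀, by rw [coeff_fixRest s (f j) (hD j), if_pos i₀.2]; exact hunit⟩ (by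
            rw [← map_natCast (algebraMap (NumberField.RingOfIntegers k) k), v.valuation_eq_one_iff_notMem]
            exact fun h => hv.1 (Finset.mem_union_right _ (Finset.mem_erase.2 ⟨hv.2, Finset.mem_sdiff.2
              ⟨(finite_places_mem hfac).mem_toFinset.2 h, fun h' => hv.1 (Finset.mem_union_left _ h')⟩⟩)))
        exact ⟨m, fun _ _ => ⟨j, hm⟩⟩
      · exact ⟨0, fun h1 h2 => absurd ⟨h1, h2⟩ hv⟩
    choose mn hmn using hex
    choose jn hjn using fun (v : 𝔓) (h : v ∉ T ∪ Tsm ∧ v ≠ v₀) => hmn v h.1 h.2
    -- the first coordinate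
    obtain ⟨y, hyf, hyi, hyout⟩ := exists_strong_approx_nhds v₀ (T ∪ Tsm ∪ B)
      (Finset.notMem_union.2 ⟨Finset.notMem_union.2 ⟨hv₀, fun h => (hsm v₀ h).2 rfl⟩,
        fun h => (Finset.mem_erase.1 (Finset.mem_sdiff.1 h).1).1 rfl⟩)
      (fun v => if v ∈ T ∪ Tsm then Rf v 0 else algebraMap k _ ((mn v : ℕ) : k))
      (fun v => if h : v ∈ T ∪ Tsm then Bf v 0 else {x | Valued.v x ≤ 1} ∩
        {x | ∀ h' : v ≠ v₀, Valued.v (((G (jn v ⟨h, h'⟩)).map (algebraMap k (v.adicCompletion k))).eval x -
          algebraMap k _ ((G (jn v ⟨h, h'⟩)).eval ((mn v : ℕ) : k))) < WithZero.exp 0})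
      (fun v hv => by
        by_cases h : v ∈ T ∪ Tsm
        · rw [if_pos h, dif_pos h]; exact hBnhds v h 0
        · rw [if_neg h, dif_neg h]
          have h' : v ≠ v₀ := by
            rintro rfl
            exact (Finset.mem_erase.1 (Finset.mem_sdiff.1 ((Finset.mem_union.1 hv).resolve_left h)).1).1 rfl
          refine Filter.mem_of_superset (near_eval_mem_nhds v (G (jn v ⟨h, h'⟩)) (mn v)) ?_
          intro x hx
          exact ⟨hx.1, fun _ => hx.2⟩)
      (fun w => ai w 0) (fun w => Ui w 0) (fun w => hUi w 0)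
    refine ⟨Fin.cons y s, fun v hv i => ?_, fun w i => ?_, fun v hv hv' => ?_⟩
    · have hvT : v ∈ T ∪ Tsm := Finset.mem_union_left _ hv
      obtain ⟨hR, hU⟩ := hRT v hv
      refine Fin.cases ?_ (fun i => ?_) i
      · have := hyf v (Finset.mem_union_left _ hvT)
        rw [dif_pos hvT, hU] at this
        rwa [Fin.cons_zero]
      · have := hsf v hvT i
        rw [hU] at this
        rwa [Fin.cons_succ]
    · refine Fin.cases ?_ (fun i => ?_) i
      · rw [Fin.cons_zero]; exact hyi w
      · rw [Fin.cons_succ]; exact hsi' w i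
    · by_cases hvs : v ∈ Tsm
      · have hvT : v ∈ T ∪ Tsm := Finset.mem_union_right _ hvs
        obtain ⟨h1, j, hj⟩ := hBunit v hvs (fun i => algebraMap k _ ((Fin.cons y s : Fin (n + 1) → k) i)) fun i => by
          refine Fin.cases ?_ (fun i => ?_) i
          · have := hyf v (Finset.mem_union_left _ hvT)
            rw [dif_pos hvT] at this
            rwa [Fin.cons_zero]
          · rw [Fin.cons_succ]; exact hsf v hvT i
        refine ⟨fun i => by simpa [valued_algebraMap] using h1 i, j, ?_⟩
        change Valued.v (MvPolynomial.aeval (algebraMap k (v.adicCompletion k) ∘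
          (Fin.cons y s : Fin (n + 1) → k)) (f j)) = 1 at hj
        rwa [MvPolynomial.aeval_algebraMap_apply, valued_algebraMap] at hj
      · have hvTs : v ∉ T ∪ Tsm := by simp [hv, hvs]
        obtain ⟨hsint, -⟩ := hsout v hvTs hv'
        have hy : v.valuation k y ≤ 1 ∧ ∃ j, v.valuation k ((G j).eval y) = 1 := by
          by_cases hvB : v ∈ B
          · have h := hyf v (Finset.mem_union_right _ hvB)
            rw [dif_neg hvTs] at h
            refine ⟨by simpa [valued_algebraMap] using h.1, jn v ⟨hvTs, hv'⟩, ?_⟩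
            have h2 := h.2 hv'
            rw [Polynomial.eval_map, Polynomial.eval₂_at_apply] at h2
            have h3 : Valued.v (algebraMap k (v.adicCompletion k) ((G (jn v ⟨hvTs, hv'⟩)).eval ((mn v : ℕ) : k))) = 1 := by
              rw [valued_algebraMap]; exact hjn v ⟨hvTs, hv'⟩
            rw [← valued_algebraMap, ← h3]
            exact Valuation.map_eq_of_sub_lt _ (by rwa [h3, ← WithZero.exp_zero])
          · have hy1 := hyout v (by simp [hv, hvs, hvB]) hv'
            refine ⟨hy1, ?_⟩
            by_contra! hcon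
            have hS : ∀ j i, v.valuation k ((A j).coeff i) ≤ 1 := by
              intro j i
              by_contra hlt
              refine hvB (Finset.mem_sdiff.2 ⟨Finset.mem_erase.2 ⟨hv', (finite_not_integral S).mem_toFinset.2
                ⟨_, Finset.mem_biUnion.2 ⟨j, Finset.mem_univ _, Polynomial.coeff_mem_coeffs ?_⟩, hlt⟩⟩, hvTs⟩)
              intro h0
              rw [h0, map_zero] at hlt
              exact hlt zero_le'
            have hev : ∀ p : Polynomial k, (∀ i, v.valuation k (p.coeff i) ≤ 1) → v.valuation k (p.eval y) ≤ 1 := by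
              intro p hp
              rw [Polynomial.eval_eq_sum, Polynomial.sum]
              refine Valuation.map_sum_le _ fun i _ => ?_
              rw [map_mul, map_pow]
              exact mul_le_one' (hp i) (pow_le_one' hy1 i)
            have h1 := congrArg (fun p => v.valuation k (Polynomial.eval y p)) hAG
            simp only [Polynomial.eval_finsetSum, Polynomial.eval_one, map_one] at h1
            refine absurd h1 (ne_of_lt (Valuation.map_sum_lt' _ zero_lt_one fun j _ => ?_))
            rw [Polynomial.eval_mul, map_mul]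
            exact mul_lt_one_of_nonneg_of_lt_one_right (hev _ (hS j)) zero_le'
              (lt_of_le_of_ne (hev _ (hGc v hvTs hv' j)) (hcon j))
        obtain ⟨hy1, j, hj⟩ := hy
        refine ⟨fun i => ?_, j, by rwa [← eval_fixRest]⟩
        refine Fin.cases ?_ (fun i => ?_) i
        · rw [Fin.cons_zero]; exact hy1
        · rw [Fin.cons_succ]; exact hsint i

end Groth.Agent.NFApprox
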