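import Groth.Agent.NFApprox.UnitNorm
import Groth.Agent.NFApprox.NearUnit
import Mathlib.Analysis.Calculus.FDeriv.Bilinear
import Mathlib.Analysis.Calculus.FDeriv.Comp
import Mathlib.Analysis.Calculus.InverseFunctionTheorem.FDeriv
import Mathlib.Analysis.Normed.Module.FiniteDimension
import Mathlib.NumberTheory.NumberField.Completion.FinitePlace

/-!
# Units of `k_v ⊗ K` are norms from unramified extensions of `K`
-/

universe u

open IsDedekindDomain NumberField Topology Filter
open scoped TensorProduct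

namespace Groth.Agent.NFApprox

variable {k K : Type u} [Field k] [NumberField k] [Field K] [NumberField K] [Algebra k K]

local notation "𝔓" => HeightOneSpectrum (NumberField.RingOfIntegers k)
local notation "OK" => NumberField.RingOfIntegers K

/-- Coordinates of elements integral above `v` are bounded. -/
theorem coord_le (v : 𝔓) {ι : Type*} (bs : Module.Basis ι k K) (C : WithZero (Multiplicative ℤ))
    (hC : ∀ j i, v.valuation k (bs.repr (NumberField.RingOfIntegers.basis K j : K) i) ≤ C) (y : K)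
    (hint : ∀ W : HeightOneSpectrum OK, W.asIdeal.LiesOver v.asIdeal → W.valuation K y ≤ 1) (i : ι) :
    v.valuation k (bs.repr y i) ≤ C := by
  classical
  obtain ⟨s, hs, z, hz⟩ : ∃ s : NumberField.RingOfIntegers k, s ∉ v.asIdeal ∧
      ∃ z : OK, (z : K) = algebraMap k K (s : k) * y := by
    let B : Set (HeightOneSpectrum OK) := {W : HeightOneSpectrum OK | ¬ W.valuation K y ≤ 1}
    have hB : B.Finite := (finite_not_integral (k := K) {y}).subset fun W hW => ⟨y, by simp, hW⟩
    have hne : ∀ W ∈ B, ∃ t : NumberField.RingOfIntegers k, t ∉ v.asIdeal ∧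
        algebraMap _ OK t ∈ W.asIdeal := by
      intro W hW
      have hP : (W.asIdeal.under (NumberField.RingOfIntegers k)) ≠ v.asIdeal := fun h =>
        hW (hint W ⟨h.symm⟩)
      obtain ⟨t, htW, htv⟩ := SetLike.not_le_iff_exists.1 fun hle => hP
        ((Ideal.IsMaximal.eq_of_le (by
          haveI : (W.asIdeal.under (NumberField.RingOfIntegers k)).IsPrime := inferInstance
          exact this.isMaximal (Ideal.under_ne_bot _ W.ne_bot)) v.isPrime.ne_top hle))
      exact ⟨t, htv, htW⟩
    choose t ht htW using hne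
    have hM : ∀ W ∈ B, ∃ M : ℕ, W.valuation K y ≤ WithZero.exp (M : ℤ) := fun W _ => by
      rcases eq_or_ne (W.valuation K y) 0 with h | h
      · exact ⟨0, by rw [h]; exact zero_le'⟩
      · obtain ⟨e', he'⟩ := WithZero.ne_zero_iff_exists.1 h
        refine ⟨(Multiplicative.toAdd e').natAbs, ?_⟩
        rw [← he']
        change WithZero.exp (Multiplicative.toAdd e') ≤ _
        rw [WithZero.exp_le_exp]
        omega
    choose M hM using hM
    let s := ∏ W ∈ hB.toFinset.attach, t W.1 (hB.mem_toFinset.1 W.2) ^ M W.1 (hB.mem_toFinset.1 W.2)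
    refine ⟨s, fun h => ?_, ?_⟩
    · obtain ⟨W, -, hW⟩ := v.isPrime.prod_mem_iff.1 h
      exact ht _ _ (v.isPrime.mem_of_pow_mem _ hW)
    · obtain ⟨z, hz⟩ := HeightOneSpectrum.mem_integers_of_valuation_le_one (R := OK) K (algebraMap k K (s : k) * y) fun W => by
        have hsW : W.valuation K (algebraMap k K (s : k)) ≤ 1 := by
          rw [show algebraMap k K (s : k) = algebraMap OK K (algebraMap _ OK s) from
            (IsScalarTower.algebraMap_apply _ k K s).symm.trans (IsScalarTower.algebraMap_apply _ OK K s)]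
          exact W.valuation_le_one _
        rw [map_mul]
        by_cases hW : W ∈ B
        · have hmemW : W ∈ hB.toFinset := hB.mem_toFinset.2 hW
          obtain ⟨q, hq⟩ : t W hW ^ M W hW ∣ s :=
            Finset.dvd_prod_of_mem (fun W : {W // W ∈ hB.toFinset} =>
              t W.1 (hB.mem_toFinset.1 W.2) ^ M W.1 (hB.mem_toFinset.1 W.2))
              (Finset.mem_attach _ ⟨W, hmemW⟩)
          calc W.valuation K (algebraMap k K (s : k)) * W.valuation K y
              ≤ WithZero.exp (-(M W hW : ℤ)) * WithZero.exp (M W hW : ℤ) := mul_le_mul' ?_ (hM W hW)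
            _ = 1 := by rw [← WithZero.exp_add, neg_add_cancel, WithZero.exp_zero]
          rw [show algebraMap k K (s : k) = algebraMap OK K (algebraMap _ OK s) from
            (IsScalarTower.algebraMap_apply _ k K s).symm.trans (IsScalarTower.algebraMap_apply _ OK K s),
            HeightOneSpectrum.valuation_of_algebraMap, HeightOneSpectrum.intValuation_le_pow_iff_mem, hq,
            map_mul, map_pow]
          exact Ideal.mul_mem_right _ _ (Ideal.pow_mem_pow (htW W hW) _)
        · exact mul_le_one' hsW (not_not.1 hW)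
      exact ⟨z, hz⟩
  have hsv : v.valuation k (s : k) = 1 := (v.valuation_eq_one_iff_notMem (K := k)).2 hs
  let gb := NumberField.RingOfIntegers.basis K
  have hcoord : v.valuation k (bs.repr (z : K) i) ≤ C := by
    rw [← gb.sum_repr z, show ((∑ j, gb.repr z j • gb j : OK) : K) = ∑ j, gb.repr z j • (gb j : K) by
      push_cast [zsmul_eq_mul]; rfl, map_sum, Finsupp.finsetSum_apply]
    refine Valuation.map_sum_le _ fun j _ => ?_
    rw [map_zsmul, Finsupp.smul_apply, zsmul_eq_mul, map_mul,
      ← map_intCast (algebraMap (NumberField.RingOfIntegers k) k)]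
    exact (mul_le_of_le_one_left' (v.valuation_le_one _)).trans (hC j i)
  rw [hz, ← Algebra.smul_def, map_smul, Finsupp.smul_apply, smul_eq_mul, map_mul,
    (v.valuation_eq_one_iff_notMem (K := k)).2 hs, one_mul] at hcoord
  exact hcoord

/-- Elements small above `v` have small coordinates. -/
theorem exists_coord_bound (v : 𝔓) {ι : Type*} [Finite ι] (bs : Module.Basis ι k K) (m : ℤ) :
    ∃ c : k, c ≠ 0 ∧ ∀ x : K,
      (∀ W : HeightOneSpectrum OK, W.asIdeal.LiesOver v.asIdeal →
        W.valuation K x ≤ W.valuation K (algebraMap k K c)) →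
      ∀ i, v.valuation k (bs.repr x i) < WithZero.exp m := by
  classical
  haveI := Fintype.ofFinite ι
  let gb := NumberField.RingOfIntegers.basis K
  obtain ⟨N, hN⟩ : ∃ N : ℕ, ∀ j i, v.valuation k (bs.repr (gb j : K) i) < WithZero.exp (N : ℤ) := by
    have : ∀ p : Module.Free.ChooseBasisIndex ℤ OK × ι, ∃ N : ℕ,
        v.valuation k (bs.repr (gb p.1 : K) p.2) < WithZero.exp (N : ℤ) := fun p => by
      rcases eq_or_ne (v.valuation k (bs.repr (gb p.1 : K) p.2)) 0 with h | h
      · exact ⟨0, by rw [h]; exact WithZero.exp_pos⟩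
      · obtain ⟨e, he⟩ := WithZero.ne_zero_iff_exists.1 h
        refine ⟨(Multiplicative.toAdd e).natAbs + 1, ?_⟩
        rw [← he]
        change WithZero.exp (Multiplicative.toAdd e) < _
        rw [WithZero.exp_lt_exp]
        omega
    choose N hN using this
    exact ⟨Finset.univ.sup N, fun j i => (hN (j, i)).trans_le
      (WithZero.exp_le_exp.2 (by exact_mod_cast Finset.le_sup (f := N) (Finset.mem_univ (j, i))))⟩
  obtain ⟨π, hπ⟩ := v.valuation_exists_uniformizer k
  set e := (N - m + 1 : ℤ).natAbs with he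
  have hπ0 : π ≠ 0 := fun h => by rw [h, map_zero] at hπ; exact WithZero.exp_ne_zero hπ.symm
  refine ⟨π ^ e, pow_ne_zero _ hπ0, fun x hx i => ?_⟩
  -- write `x / c` with denominator prime to `v`
  have hint : ∀ W : HeightOneSpectrum OK, W.asIdeal.LiesOver v.asIdeal →
      W.valuation K (x / algebraMap k K (π ^ e)) ≤ 1 := fun W hW => by
    rw [map_div₀, div_le_one₀ (zero_lt_iff.2 ((Valuation.ne_zero_iff _).2
      ((map_ne_zero_iff _ (algebraMap k K).injective).2 (pow_ne_zero _ hπ0))))]
    exact hx W hW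
  have hcoord := coord_le v bs _ (fun j i => (hN j i).le) _ hint i
  have hx' : x = (π ^ e : k) • (x / algebraMap k K (π ^ e)) := by
    rw [Algebra.smul_def, mul_div_cancel₀ _ ((map_ne_zero_iff _ (algebraMap k K).injective).2 (pow_ne_zero _ hπ0))]
  rw [hx', map_smul, Finsupp.smul_apply, smul_eq_mul, map_mul, map_pow, hπ, ← WithZero.exp_nsmul]
  refine (mul_le_mul' le_rfl hcoord).trans_lt ?_
  rw [← WithZero.exp_add, WithZero.exp_lt_exp, nsmul_eq_mul, he]
  omega

section Root

/-- Elements of `k_v ⊗ K` near `1` are `d`-th powers. -/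
theorem exists_pow_eq_nhds (v : 𝔓) {ι : Type*} [Fintype ι] (bs : Module.Basis ι k K) {d : ℕ} (hd : d ≠ 0) :
    ∃ m : ℤ, ∀ δ : (v.adicCompletion k) ⊗[k] K,
      (∀ i, Valued.v ((Algebra.TensorProduct.basis (v.adicCompletion k) bs).repr (δ - 1) i) < WithZero.exp m) →
      ∃ r, r ^ d = δ := by
  classical
  letI : NontriviallyNormedField (v.adicCompletion k) := Valued.toNontriviallyNormedField (v.adicCompletion k) (WithZero (Multiplicative ℤ))
  let bR := Algebra.TensorProduct.basis (v.adicCompletion k) bs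
  let E := ι → v.adicCompletion k
  let T : E ≃ₗ[v.adicCompletion k] (v.adicCompletion k) ⊗[k] K := bR.equivFun.symm
  let B : E →L[v.adicCompletion k] E →L[v.adicCompletion k] E :=
    LinearMap.toContinuousLinearMap
      ((LinearMap.toContinuousLinearMap (𝕜 := v.adicCompletion k) (E := E) (F' := E)).toLinearMap.comp
        (((LinearMap.mul (v.adicCompletion k) ((v.adicCompletion k) ⊗[k] K)).compl₁₂ T.toLinearMap T.toLinearMap).compr₂
          T.symm.toLinearMap))
  have hB : ∀ x y, B x y = T.symm (T x * T y) := fun x y => rfl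
  set one : E := T.symm 1 with hone
  have hone' : ∀ x, B x one = x ∧ B one x = x := fun x => by
    simp [hB, hone]
  let P : ℕ → E → E := fun j => Nat.rec (fun _ => one) (fun _ f x => B (f x) x) j
  have hP : ∀ j x, T (P j x) = T x ^ j := by
    intro j x
    induction j with
    | zero => simp [P, hone]
    | succ j ih => show T (B (P j x) x) = _; rw [hB, T.apply_symm_apply, ih, pow_succ]
  have hP1 : ∀ j, P j one = one := fun j => T.injective (by rw [hP, hone, T.apply_symm_apply, one_pow])
  have hder : ∀ j, HasStrictFDerivAt (P j) ((j : v.adicCompletion k) • ContinuousLinearMap.id (v.adicCompletion k) E) one := by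
    intro j
    induction j with
    | zero => exact (hasStrictFDerivAt_const (𝕜 := v.adicCompletion k) one one).congr_fderiv (by ext1 h; simp)
    | succ j ih =>
      have := B.hasStrictFDerivAt_of_bilinear ih (hasStrictFDerivAt_id (𝕜 := v.adicCompletion k) one)
      refine this.congr_fderiv ?_
      ext1 h
      simp [hP1, (hone' _).1, (hone' _).2, add_smul, add_comm]
  have hd' : (d : v.adicCompletion k) ≠ 0 := by
    rw [← map_natCast (algebraMap k (v.adicCompletion k))]
    exact (map_ne_zero_iff _ (algebraMap k _).injective).2 (Nat.cast_ne_zero.2 hd)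
  let D : E ≃L[v.adicCompletion k] E :=
    ContinuousLinearEquiv.smulLeft (Units.mk0 (d : v.adicCompletion k) hd')
  have hD : HasStrictFDerivAt (P d) (D : E →L[v.adicCompletion k] E) one := (hder d).congr_fderiv (by ext1 h; simp [D])
  have hmap := hD.map_nhds_eq_of_equiv
  rw [hP1] at hmap
  have hmem : P d '' Set.univ ∈ 𝓝 one := by rw [← hmap]; exact image_mem_map univ_mem
  have hmem' : (fun y => one + y) ⁻¹' (P d '' Set.univ) ∈ 𝓝 (0 : E) :=
    (continuous_const.add continuous_id).continuousAt.preimage_mem_nhds (by simpa using hmem)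
  rw [nhds_pi, Filter.mem_pi] at hmem'
  obtain ⟨I, -, U, hU, hsub⟩ := hmem'
  choose mi hmi using fun i => exists_ball_subset v (hU i)
  obtain ⟨m, hm⟩ : ∃ m : ℤ, ∀ i, m ≤ mi i :=
    ⟨-(∑ i, ((mi i).natAbs : ℤ)), fun i => by
      have := Finset.single_le_sum (f := fun i => ((mi i).natAbs : ℤ)) (fun j _ => Int.natCast_nonneg _) (Finset.mem_univ i)
      omega⟩
  refine ⟨m, fun δ hδ => ?_⟩
  obtain ⟨x, -, hx⟩ := hsub (show T.symm (δ - 1) ∈ I.pi U from fun i _ =>
    hmi i ((hδ i).trans_le (WithZero.exp_le_exp.2 (hm i))))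
  refine ⟨T x, ?_⟩
  rw [← hP, hx, map_add, hone, T.apply_symm_apply, T.apply_symm_apply, add_sub_cancel]

end Root

/-- Extension of scalars in two steps. -/
theorem exists_cancel_equiv (R₀ L : Type u) [CommRing R₀] [Algebra k R₀] [CommRing L] [Algebra K L] [Algebra k L]
    [IsScalarTower k K L] :
    letI := (Algebra.TensorProduct.includeRight : K →ₐ[k] R₀ ⊗[k] K).toRingHom.toAlgebra
    letI := (Algebra.TensorProduct.map (AlgHom.id k R₀) (IsScalarTower.toAlgHom k K L)).toRingHom.toAlgebra
    ∃ e : (R₀ ⊗[k] K) ⊗[K] L ≃ₐ[R₀ ⊗[k] K] R₀ ⊗[k] L,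
      ∀ l : L, e ((1 : R₀ ⊗[k] K) ⊗ₜ[K] l) = (1 : R₀) ⊗ₜ[k] l := by
  letI := (Algebra.TensorProduct.includeRight : K →ₐ[k] R₀ ⊗[k] K).toRingHom.toAlgebra
  letI := (Algebra.TensorProduct.map (AlgHom.id k R₀) (IsScalarTower.toAlgHom k K L)).toRingHom.toAlgebra
  let S := R₀ ⊗[k] L
  let R := R₀ ⊗[k] K
  letI : Algebra K S := ((algebraMap R S).comp (algebraMap K R)).toAlgebra
  haveI : IsScalarTower K R S := IsScalarTower.of_algebraMap_eq fun _ => rfl
  haveI : IsScalarTower k K R := IsScalarTower.of_algebraMap_eq fun x =>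
    ((Algebra.TensorProduct.includeRight : K →ₐ[k] R).commutes x).symm
  let g : L →ₐ[K] S :=
    { (Algebra.TensorProduct.includeRight : L →ₐ[k] S).toRingHom with
      commutes' := fun c => by
        show (1 : R₀) ⊗ₜ[k] algebraMap K L c = algebraMap R S ((1 : R₀) ⊗ₜ[k] c)
        rw [show algebraMap R S = (Algebra.TensorProduct.map (AlgHom.id k R₀) (IsScalarTower.toAlgHom k K L)).toRingHom
          from RingHom.algebraMap_toAlgebra _]
        rfl }
  let f : R ⊗[K] L →ₐ[R] S := Algebra.TensorProduct.lift (Algebra.ofId R S) g fun _ _ => Commute.all _ _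
  let h₁ : R₀ →ₐ[k] R ⊗[K] L :=
    { ((Algebra.TensorProduct.includeLeftRingHom : R →+* R ⊗[K] L).comp
        (Algebra.TensorProduct.includeLeftRingHom : R₀ →+* R)) with
      commutes' := fun c => by
        show ((algebraMap k R₀ c) ⊗ₜ[k] (1 : K)) ⊗ₜ[K] (1 : L) = algebraMap k (R ⊗[K] L) c
        rw [Algebra.TensorProduct.algebraMap_apply, IsScalarTower.algebraMap_apply k R R]
        rfl }
  let h₂ : L →ₐ[k] R ⊗[K] L := (Algebra.TensorProduct.includeRight : L →ₐ[K] R ⊗[K] L).restrictScalars k
  let h : S →ₐ[k] R ⊗[K] L := Algebra.TensorProduct.lift h₁ h₂ fun _ _ => Commute.all _ _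
  have hfh : ∀ x, h (f x) = x := by
    intro x
    induction x using TensorProduct.induction_on with
    | zero => simp
    | add a b ha hb => rw [map_add, map_add, ha, hb]
    | tmul r l =>
      induction r using TensorProduct.induction_on with
      | zero => simp
      | add a b ha hb => rw [TensorProduct.add_tmul, map_add, map_add, ha, hb]
      | tmul a c =>
        have h1 : f ((a ⊗ₜ[k] c) ⊗ₜ[K] l) = a ⊗ₜ[k] (c • l) := by
          show algebraMap R S (a ⊗ₜ[k] c) * ((1 : R₀) ⊗ₜ[k] l) = _
          rw [show algebraMap R S = (Algebra.TensorProduct.map (AlgHom.id k R₀) (IsScalarTower.toAlgHom k K L)).toRingHom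
            from RingHom.algebraMap_toAlgebra _]
          show (a ⊗ₜ[k] algebraMap K L c) * ((1 : R₀) ⊗ₜ[k] l) = _
          rw [Algebra.TensorProduct.tmul_mul_tmul, mul_one, Algebra.smul_def]
        rw [h1]
        show ((a ⊗ₜ[k] (1 : K)) ⊗ₜ[K] (1 : L)) * ((1 : R) ⊗ₜ[K] (c • l)) = _
        rw [Algebra.TensorProduct.tmul_mul_tmul, mul_one, one_mul, TensorProduct.tmul_smul, TensorProduct.smul_tmul',
          Algebra.smul_def]
        show (((1 : R₀) ⊗ₜ[k] c) * (a ⊗ₜ[k] (1 : K))) ⊗ₜ[K] l = _
        rw [Algebra.TensorProduct.tmul_mul_tmul, one_mul, mul_one]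
  have hsurj : Function.Surjective f := fun x => by
    induction x using TensorProduct.induction_on with
    | zero => exact ⟨0, map_zero f⟩
    | add a b ha hb =>
      obtain ⟨a, rfl⟩ := ha; obtain ⟨b, rfl⟩ := hb
      exact ⟨a + b, map_add f a b⟩
    | tmul a l =>
      refine ⟨(a ⊗ₜ[k] (1 : K)) ⊗ₜ[K] l, ?_⟩
      show algebraMap R S (a ⊗ₜ[k] (1 : K)) * ((1 : R₀) ⊗ₜ[k] l) = _
      rw [show algebraMap R S = (Algebra.TensorProduct.map (AlgHom.id k R₀) (IsScalarTower.toAlgHom k K L)).toRingHom
        from RingHom.algebraMap_toAlgebra _]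
      show (a ⊗ₜ[k] algebraMap K L 1) * ((1 : R₀) ⊗ₜ[k] l) = _
      rw [map_one, Algebra.TensorProduct.tmul_mul_tmul, mul_one, one_mul]
  refine ⟨AlgEquiv.ofBijective f ⟨fun a b hab => by rw [← hfh a, ← hfh b, hab], hsurj⟩, fun l => ?_⟩
  show f ((1 : R) ⊗ₜ[K] l) = _
  rw [Algebra.TensorProduct.lift_tmul, map_one, one_mul]
  rfl

/-- Norms in `R₀ ⊗ L` over `R₀ ⊗ K` of elements of `L`. -/
theorem norm_one_tmul_rel (R₀ L : Type u) [CommRing R₀] [Algebra k R₀] [Field L] [NumberField L] [Algebra K L]
    [Algebra k L] [IsScalarTower k K L] (y : L) :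
    letI := (Algebra.TensorProduct.map (AlgHom.id k R₀) (IsScalarTower.toAlgHom k K L)).toRingHom.toAlgebra
    Algebra.norm (R₀ ⊗[k] K) ((1 : R₀) ⊗ₜ[k] y) = (1 : R₀) ⊗ₜ[k] Algebra.norm K y ∧
      ∀ r : R₀ ⊗[k] K, Algebra.norm (R₀ ⊗[k] K) (algebraMap _ (R₀ ⊗[k] L) r) = r ^ Module.finrank K L := by
  letI := (Algebra.TensorProduct.includeRight : K →ₐ[k] R₀ ⊗[k] K).toRingHom.toAlgebra
  letI := (Algebra.TensorProduct.map (AlgHom.id k R₀) (IsScalarTower.toAlgHom k K L)).toRingHom.toAlgebra
  obtain ⟨e, he⟩ := exists_cancel_equiv (k := k) (K := K) R₀ L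
  let γ := Module.finBasis K L
  let bRγ := Algebra.TensorProduct.basis (R₀ ⊗[k] K) γ
  refine ⟨?_, fun r => ?_⟩
  · rw [← he, Algebra.norm_eq_of_algEquiv, Algebra.norm_eq_matrix_det bRγ, leftMulMatrix_one_tmul,
      Algebra.norm_eq_matrix_det γ,
      show (Algebra.leftMulMatrix γ y).map (algebraMap K (R₀ ⊗[k] K)) =
        (algebraMap K (R₀ ⊗[k] K)).mapMatrix (Algebra.leftMulMatrix γ y) from rfl, ← RingHom.map_det]
    rfl
  · rw [← e.commutes r, Algebra.norm_eq_of_algEquiv, Algebra.norm_algebraMap_of_basis bRγ, Fintype.card_fin]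

/-- Units above an unramified place are norms. -/
theorem exists_norm_eq_rel (L : Type u) [Field L] [NumberField L] [Algebra K L] [Algebra k L]
    [IsScalarTower k K L] (v : 𝔓)
    (hunr : ∀ W : HeightOneSpectrum OK, W.asIdeal.LiesOver v.asIdeal →
      ∀ Q : Ideal (NumberField.RingOfIntegers L), Q.IsPrime → Q.LiesOver W.asIdeal → Q.ramificationIdx OK = 1)
    (c : K) (hc : ∀ W : HeightOneSpectrum OK, W.asIdeal.LiesOver v.asIdeal → W.valuation K c = 1) :
    letI := (Algebra.TensorProduct.map (AlgHom.id k (v.adicCompletion k))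
      (IsScalarTower.toAlgHom k K L)).toRingHom.toAlgebra
    ∃ x : (v.adicCompletion k) ⊗[k] L, IsUnit x ∧
      Algebra.norm ((v.adicCompletion k) ⊗[k] K) x = (1 : v.adicCompletion k) ⊗ₜ[k] c := by
  classical
  letI := (Algebra.TensorProduct.map (AlgHom.id k (v.adicCompletion k))
      (IsScalarTower.toAlgHom k K L)).toRingHom.toAlgebra
  let bs := Module.finBasis k K
  obtain ⟨m, hm⟩ := exists_pow_eq_nhds v bs (Module.finrank_pos (R := K) (M := L)).ne'
  obtain ⟨c₀, hc₀, hsmall⟩ := exists_coord_bound v bs m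
  have hc₀K : algebraMap k K c₀ ≠ 0 := (map_ne_zero_iff _ (algebraMap k K).injective).2 hc₀
  have hfin : {W : HeightOneSpectrum OK | W.asIdeal.LiesOver v.asIdeal}.Finite := by
    obtain ⟨p, hp, hp0⟩ := Submodule.exists_mem_ne_zero_of_ne_bot v.ne_bot
    refine (finite_places_mem (k := K) ((map_ne_zero_iff _ (FaithfulSMul.algebraMap_injective (NumberField.RingOfIntegers k) OK)).2 hp0)).subset fun W hW => ?_
    haveI : W.asIdeal.LiesOver v.asIdeal := hW
    exact (Ideal.mem_of_liesOver W.asIdeal v.asIdeal p).1 hp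
  let T := hfin.toFinset
  let γ := Module.finBasis K L
  let Nm : ∀ (F : Type u) [Field F] [Algebra K F], (Fin (Module.finrank K L) → F) → F := fun F _ _ q =>
    (∑ j, q j • (Algebra.leftMulMatrix γ (γ j)).map (algebraMap K F)).det
  have hbox : ∀ W : HeightOneSpectrum OK, ∃ (a : Fin (Module.finrank K L) → W.adicCompletion K)
      (U : Fin (Module.finrank K L) → Set (W.adicCompletion K)), (∀ j, U j ∈ 𝓝 (a j)) ∧
      ∀ q, (∀ j, q j ∈ U j) → W ∈ T → Valued.v (Nm _ q - algebraMap K _ c) <
        Valued.v (algebraMap K (W.adicCompletion K) (algebraMap k K c₀)) ∧ Valued.v (Nm _ q) = 1 := by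
    intro W
    by_cases hW : W ∈ T
    · have hWv := hfin.mem_toFinset.1 hW
      haveI := hWv
      obtain ⟨y, -, hy⟩ := exists_norm_eq_of_valued_one (L := L) W (fun Q hQ hQW => hunr W hWv Q hQ hQW)
        (algebraMap K _ c) (by rw [valued_algebraMap]; exact hc W hWv)
      rw [norm_coord γ] at hy
      obtain ⟨e, he⟩ := WithZero.ne_zero_iff_exists.1
        ((Valuation.ne_zero_iff (Valued.v (R := W.adicCompletion K))).2
          ((map_ne_zero_iff _ (algebraMap K (W.adicCompletion K)).injective).2 hc₀K))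
      let O₁ : Set (W.adicCompletion K) := {z | Valued.v (z - algebraMap K _ c) < WithZero.exp (Multiplicative.toAdd e)} ∩
        {z | Valued.v (z - algebraMap K _ c) < WithZero.exp 0}
      have hO : IsOpen O₁ := ((isOpen_lt_exp W _).preimage (continuous_id.sub continuous_const)).inter
        ((isOpen_lt_exp W _).preimage (continuous_id.sub continuous_const))
      have hcont : Continuous (Nm (W.adicCompletion K)) :=
        Continuous.matrix_det (continuous_finsetSum _ fun j _ => (continuous_apply j).smul continuous_const)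
      obtain ⟨I, U, hU, hsub⟩ := isOpen_pi_iff.1 (hO.preimage hcont)
        (fun j => (Algebra.TensorProduct.basis (W.adicCompletion K) γ).repr y j) (by
          show Nm _ _ ∈ O₁
          rw [show Nm _ _ = algebraMap K (W.adicCompletion K) c from hy]
          simp [O₁, WithZero.exp_pos])
      refine ⟨fun j => (Algebra.TensorProduct.basis (W.adicCompletion K) γ).repr y j, fun j => if j ∈ I then U j else Set.univ, fun j => ?_, fun q hq _ => ?_⟩
      · dsimp only
        split_ifs with hj
        · exact (hU j hj).1.mem_nhds (hU j hj).2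
        · exact Filter.univ_mem
      · have h1 := hsub (show q ∈ (I : Set _).pi U from fun j hj => by
          have := hq j
          simpa [Finset.mem_coe.1 hj] using this)
        refine ⟨h1.1.trans_eq he, ?_⟩
        have h2 : Valued.v (algebraMap K (W.adicCompletion K) c) = 1 := by rw [valued_algebraMap]; exact hc W hWv
        rw [← h2]
        refine Valuation.map_eq_of_sub_lt _ (h1.2.trans_eq ?_)
        rw [h2, WithZero.exp_zero]
    · exact ⟨0, fun _ => Set.univ, fun _ => Filter.univ_mem, fun _ _ h => absurd h hW⟩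
  choose a U hU hNm using hbox
  obtain ⟨W₀, hW₀, -⟩ := exists_place_degree_one (k := K) (L := K) T
  choose q hq _ _ using fun j => exists_strong_approx_nhds W₀ T hW₀ (fun W => a W j) (fun W => U W j)
    (fun W _ => hU W j) (fun _ => 0) (fun _ => Set.univ) (fun _ => Filter.univ_mem)
  set y : L := ∑ j, q j • γ j with hy
  have hN : ∀ W : HeightOneSpectrum OK, algebraMap K (W.adicCompletion K) (Algebra.norm K y) =
      Nm _ (fun j => algebraMap K _ (q j)) := by
    intro W
    rw [Algebra.norm_eq_matrix_det γ, RingHom.map_det, hy, map_sum, map_sum]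
    congr 1
    refine Finset.sum_congr rfl fun j _ => ?_
    rw [map_smul]
    ext i l
    simp only [RingHom.mapMatrix_apply, Matrix.map_apply, Matrix.smul_apply, smul_eq_mul, map_mul]
  have hδW : ∀ W : HeightOneSpectrum OK, W.asIdeal.LiesOver v.asIdeal →
      W.valuation K (c / Algebra.norm K y - 1) ≤ W.valuation K (algebraMap k K c₀) := by
    intro W hW
    obtain ⟨h1, h2⟩ := hNm W (fun j => algebraMap K _ (q j)) (fun j => hq j W (hfin.mem_toFinset.2 hW))
      (hfin.mem_toFinset.2 hW)
    rw [← hN, ← map_sub, valued_algebraMap, valued_algebraMap] at h1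
    rw [← hN, valued_algebraMap] at h2
    rw [div_sub_one (fun h => by rw [h, map_zero] at h2; exact zero_ne_one h2), map_div₀, h2, div_one,
      Valuation.map_sub_swap]
    exact h1.le
  obtain ⟨r, hr⟩ := hm ((1 : v.adicCompletion k) ⊗ₜ[k] (c / Algebra.norm K y)) fun i => by
    rw [Algebra.TensorProduct.one_def, ← TensorProduct.tmul_sub, Algebra.TensorProduct.basis_repr_tmul,
      Finsupp.smul_apply, Finsupp.mapRange_apply, one_smul, valued_algebraMap]
    exact hsmall _ hδW i
  obtain ⟨W₁, hW₁⟩ : ∃ W : HeightOneSpectrum OK, W.asIdeal.LiesOver v.asIdeal := by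
    obtain ⟨Q, hQp, hQ⟩ := Ideal.exists_maximal_ideal_liesOver_of_isIntegral (S := OK) v.asIdeal
    exact ⟨⟨Q, hQp.isPrime, Ideal.ne_bot_of_liesOver_of_ne_bot v.ne_bot Q⟩, hQ⟩
  have hc0 : c ≠ 0 := fun h => by
    have := hc W₁ hW₁
    rw [h, map_zero] at this
    exact zero_ne_one this
  have hy0 : Algebra.norm K y ≠ 0 := fun h => by
    have := (hNm W₁ (fun j => algebraMap K _ (q j)) (fun j => hq j W₁ (hfin.mem_toFinset.2 hW₁))
      (hfin.mem_toFinset.2 hW₁)).2
    rw [← hN, h, map_zero, map_zero] at this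
    exact zero_ne_one this
  obtain ⟨hn1, hn2⟩ := norm_one_tmul_rel (k := k) (K := K) (v.adicCompletion k) L y
  have hx : Algebra.norm ((v.adicCompletion k) ⊗[k] K) ((1 : v.adicCompletion k) ⊗ₜ[k] y *
      algebraMap _ ((v.adicCompletion k) ⊗[k] L) r) = (1 : v.adicCompletion k) ⊗ₜ[k] c := by
    rw [map_mul, hn1, hn2, hr, Algebra.TensorProduct.tmul_mul_tmul, one_mul, mul_div_cancel₀ _ hy0]
  refine ⟨_, ?_, hx⟩
  refine IsUnit.mul ?_ ?_
  · exact IsUnit.of_mul_eq_one ((1 : v.adicCompletion k) ⊗ₜ[k] y⁻¹) (by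
      rw [Algebra.TensorProduct.tmul_mul_tmul, one_mul,
        mul_inv_cancel₀ (fun h : y = 0 => hy0 (by rw [h, Algebra.norm_zero])), Algebra.TensorProduct.one_def])
  · refine IsUnit.map _ ?_
    rw [← isUnit_pow_iff (Module.finrank_pos (R := K) (M := L)).ne', hr]
    exact IsUnit.of_mul_eq_one ((1 : v.adicCompletion k) ⊗ₜ[k] (Algebra.norm K y / c)) (by
      rw [Algebra.TensorProduct.tmul_mul_tmul, one_mul, div_mul_div_cancel₀ hy0, div_self hc0,
        Algebra.TensorProduct.one_def])

end Groth.Agent.NFApprox
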