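import Groth.Agent.NFApprox.UnitNorm
import Groth.Agent.NFApprox.NearUnit
import Groth.Agent.NFApprox.PowRoot
import Mathlib.NumberTheory.NumberField.Completion.InfinitePlace
import Mathlib.NumberTheory.NumberField.InfinitePlace.Ramification
import Mathlib.Topology.Algebra.UniformRing
import Mathlib.RingTheory.Norm.Transitivity
import Mathlib.FieldTheory.IsAlgClosed.AlgebraicClosure
import Mathlib.FieldTheory.Normal.Closure

/-!
# Maps of completions, transfer of norms, places of degree one in several extensions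
-/

universe u

open IsDedekindDomain NumberField Topology Filter
open scoped TensorProduct

namespace Groth.Agent.NFApprox

/-- A homomorphism continuous for the induced topology extends to the completion. -/
theorem exists_extension_hom {A D F : Type*} [CommRing A] [CommRing D] [UniformSpace D] [IsUniformAddGroup D]
    [IsTopologicalRing D] [CommRing F] [UniformSpace F] [IsUniformAddGroup F] [IsTopologicalRing F]
    [T2Space F] [CompleteSpace F] (i : A →+* D) (hi : DenseRange i) (g : A →+* F)
    (hg : ∀ U ∈ 𝓝 (0 : F), ∃ V ∈ 𝓝 (0 : D), ∀ x, i x ∈ V → g x ∈ U) :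
    ∃ f : D →+* F, Continuous f ∧ ∀ x, f (i x) = g x := by
  letI : UniformSpace A := UniformSpace.comap i inferInstance
  have hind : IsUniformInducing i := ⟨rfl⟩
  haveI : IsUniformAddGroup A := IsUniformInducing.isUniformAddGroup i hind
  have hc : UniformContinuous g := by
    refine uniformContinuous_of_continuousAt_zero g ?_
    rw [ContinuousAt, map_zero, tendsto_def]
    intro U hU
    obtain ⟨V, hV, hVU⟩ := hg U hU
    exact mem_of_superset ((hind.uniformContinuous.continuous.tendsto 0) (by rwa [map_zero])) hVU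
  exact ⟨IsDenseInducing.extendRingHom hind hi hc,
    (uniformContinuous_uniformly_extend hind hi hc).continuous,
    fun x => IsDenseInducing.extend_eq (hind.isDenseInducing hi) hc.continuous x⟩

variable {k K : Type u} [Field k] [NumberField k] [Field K] [NumberField K] [Algebra k K]

local notation "𝔓" => HeightOneSpectrum (NumberField.RingOfIntegers k)
local notation "OK" => NumberField.RingOfIntegers K

/-- The map of completions at finite places. -/
theorem exists_completion_hom (v : 𝔓) (W : HeightOneSpectrum OK) [W.asIdeal.LiesOver v.asIdeal] :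
    ∃ f : v.adicCompletion k →+* W.adicCompletion K, Continuous f ∧
      ∀ x : k, f (algebraMap k _ x) = algebraMap K _ (algebraMap k K x) := by
  refine exists_extension_hom (algebraMap k (v.adicCompletion k)) (HeightOneSpectrum.denseRange_algebraMap (K := k) v)
    ((algebraMap K (W.adicCompletion K)).comp (algebraMap k K)) fun U hU => ?_
  obtain ⟨m, hm⟩ := exists_ball_subset W hU
  refine ⟨{x | Valued.v x < WithZero.exp (min m 0)}, (isOpen_lt_exp v _).mem_nhds (by simp [WithZero.exp_pos]),
    fun x hx => hm ?_⟩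
  rw [Set.mem_setOf_eq, valued_algebraMap] at hx
  show Valued.v (algebraMap K (W.adicCompletion K) (algebraMap k K x)) < _
  rw [valued_algebraMap, ← HeightOneSpectrum.valuation_liesOver (K := k) K v W]
  refine (lt_of_le_of_lt (pow_le_of_le_one zero_le' (hx.le.trans ?_)
    (Ideal.IsDedekindDomain.ramificationIdx'_ne_zero_of_liesOver W.asIdeal v.ne_bot)) hx).trans_le
    (WithZero.exp_le_exp.2 (min_le_left _ _))
  rw [← WithZero.exp_zero, WithZero.exp_le_exp]
  exact min_le_right _ _

/-- The map of completions at infinite places. -/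
theorem exists_completion_hom_infinite (w : InfinitePlace k) (P : InfinitePlace K)
    (hP : P.comap (algebraMap k K) = w) :
    ∃ f : w.Completion →+* P.Completion, Continuous f ∧
      ∀ x : k, f (algebraMap k _ x) = algebraMap K _ (algebraMap k K x) := by
  have hdense : DenseRange (algebraMap k w.Completion) := by
    refine (InfinitePlace.Completion.denseRange_coe (v := w)).mono ?_
    rintro _ ⟨x, rfl⟩
    exact ⟨WithAbs.equiv _ x, rfl⟩
  refine exists_extension_hom (algebraMap k w.Completion) hdense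
    ((algebraMap K P.Completion).comp (algebraMap k K)) fun U hU => ?_
  obtain ⟨r, hr, hrU⟩ := Metric.mem_nhds_iff.1 hU
  refine ⟨Metric.ball 0 r, Metric.ball_mem_nhds _ hr, fun x hx => hrU ?_⟩
  rw [Metric.mem_ball, dist_zero_right, InfinitePlace.Completion.algebraMap_apply,
    InfinitePlace.Completion.norm_coe] at hx
  rw [Metric.mem_ball, dist_zero_right, RingHom.comp_apply, InfinitePlace.Completion.algebraMap_apply,
    InfinitePlace.Completion.norm_coe]
  rw [← hP] at hx
  exact hx

/-- Norms over a trivial extension. -/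
theorem norm_transfer (hdeg : Module.finrank k K = 1) (R₀ L : Type u) [Field R₀] [Algebra k R₀] [Field L]
    [NumberField L] [Algebra K L] [Algebra k L] [IsScalarTower k K L] (s : R₀) :
    letI := (Algebra.TensorProduct.map (AlgHom.id k R₀) (IsScalarTower.toAlgHom k K L)).toRingHom.toAlgebra
    ∀ x : R₀ ⊗[k] L, Algebra.norm (R₀ ⊗[k] K) x = s ⊗ₜ[k] (1 : K) → Algebra.norm R₀ x = s := by
  letI := (Algebra.TensorProduct.includeRight : K →ₐ[k] R₀ ⊗[k] K).toRingHom.toAlgebra
  letI := (Algebra.TensorProduct.map (AlgHom.id k R₀) (IsScalarTower.toAlgHom k K L)).toRingHom.toAlgebra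
  intro x hx
  haveI : IsScalarTower R₀ (R₀ ⊗[k] K) (R₀ ⊗[k] L) := by
    refine IsScalarTower.of_algebraMap_eq fun r => ?_
    rw [show algebraMap (R₀ ⊗[k] K) (R₀ ⊗[k] L) = (Algebra.TensorProduct.map (AlgHom.id k R₀)
      (IsScalarTower.toAlgHom k K L)).toRingHom from RingHom.algebraMap_toAlgebra _]
    show r ⊗ₜ[k] (1 : L) = r ⊗ₜ[k] algebraMap K L 1
    rw [map_one]
  obtain ⟨e, -⟩ := exists_cancel_equiv (k := k) (K := K) R₀ L
  haveI : Module.Free (R₀ ⊗[k] K) (R₀ ⊗[k] L) :=
    Module.Free.of_basis ((Algebra.TensorProduct.basis (R₀ ⊗[k] K) (Module.finBasis K L)).map e.toLinearEquiv)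
  haveI : Module.Finite (R₀ ⊗[k] K) (R₀ ⊗[k] L) :=
    Module.Finite.of_basis ((Algebra.TensorProduct.basis (R₀ ⊗[k] K) (Module.finBasis K L)).map e.toLinearEquiv)
  rw [← Algebra.norm_norm (S := R₀ ⊗[k] K), hx,
    show s ⊗ₜ[k] (1 : K) = algebraMap R₀ (R₀ ⊗[k] K) s from rfl,
    Algebra.norm_algebraMap_of_basis (Algebra.TensorProduct.basis R₀ (Module.finBasis k K)), Fintype.card_fin,
    hdeg, pow_one]

/-- A place outside a finite set with all conjugates of the extensions split. -/
theorem exists_place_two_degree_one (L₁ L₂ : Type u) [Field L₁] [NumberField L₁] [Algebra k L₁]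
    [Field L₂] [NumberField L₂] [Algebra k L₂] (T : Finset 𝔓) :
    ∃ v ∉ T, Nonempty (L₁ →ₐ[k] v.adicCompletion k) ∧ Nonempty (L₂ →ₐ[k] v.adicCompletion k) := by
  obtain ⟨m, hm⟩ := Ideal.exists_maximal (L₁ ⊗[k] L₂)
  letI := Ideal.Quotient.field m
  let f₁ : L₁ →ₐ[k] (L₁ ⊗[k] L₂) ⧸ m := (Ideal.Quotient.mkₐ k m).comp Algebra.TensorProduct.includeLeft
  let f₂ : L₂ →ₐ[k] (L₁ ⊗[k] L₂) ⧸ m := (Ideal.Quotient.mkₐ k m).comp Algebra.TensorProduct.includeRight
  haveI : Module.Finite k ((L₁ ⊗[k] L₂) ⧸ m) :=
    Module.Finite.of_surjective (Ideal.Quotient.mkₐ k m).toLinearMap Ideal.Quotient.mk_surjective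
  haveI : NumberField ((L₁ ⊗[k] L₂) ⧸ m) := NumberField.of_module_finite k _
  obtain ⟨v, hv, ⟨φ⟩⟩ := exists_place_degree_one (k := k) (L := (L₁ ⊗[k] L₂) ⧸ m) T
  exact ⟨v, hv, ⟨φ.comp f₁⟩, ⟨φ.comp f₂⟩⟩

end Groth.Agent.NFApprox
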