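import Mathlib.RingTheory.DedekindDomain.AdicValuation
import Mathlib.Algebra.Polynomial.Derivative
import Mathlib.RingTheory.Polynomial.Basic
import Mathlib.Topology.Algebra.Polynomial

/-!
# Simple roots lift to adic completions
-/

universe u v

open Filter Topology

namespace Groth.Agent.NFApprox

variable {R : Type u} [CommRing R] [IsDedekindDomain R] {K : Type v} [Field K] [Algebra R K]
  [IsFractionRing R K] (v : IsDedekindDomain.HeightOneSpectrum R)

theorem exists_ball_subset {s : Set (v.adicCompletion K)} (hs : s ∈ 𝓝 (0 : v.adicCompletion K)) :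
    ∃ m : ℤ, {x : v.adicCompletion K | Valued.v x < WithZero.exp m} ⊆ s := by
  obtain ⟨γ, hγ⟩ := Valued.mem_nhds_zero.1 hs
  have h0 : MonoidWithZeroHom.ValueGroup₀.embedding
      (γ : MonoidWithZeroHom.ValueGroup₀ (.ofClass (Valued.v (R := v.adicCompletion K)))) ≠ 0 :=
    (map_ne_zero _).2 γ.ne_zero
  obtain ⟨m, hm⟩ := WithZero.ne_zero_iff_exists.1 h0
  refine ⟨Multiplicative.toAdd m, fun x hx => hγ ?_⟩
  simp only [Set.mem_setOf_eq, Valuation.restrict_lt_iff_lt_embedding] at hx ⊢
  rw [← hm]
  exact hx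

/-- A simple root modulo the maximal ideal lifts to a root. -/
theorem exists_root (P : Polynomial (v.adicCompletion K))
    (hP : ∀ i, Valued.v (P.coeff i) ≤ 1) (c : v.adicCompletion K) (hc : Valued.v c ≤ 1)
    (h0 : Valued.v (P.eval c) < 1) (h1 : Valued.v (P.derivative.eval c) = 1) :
    ∃ r : v.adicCompletion K, P.IsRoot r := by
  classical
  let O := v.adicCompletionIntegers K
  obtain ⟨Q, hQ⟩ : ∃ Q : Polynomial O, Q.map O.subtype = P := by
    refine (Polynomial.mem_lifts _).1 ((Polynomial.lifts_iff_coeff_lifts _).2 fun i => ?_)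
    exact ⟨⟨P.coeff i, hP i⟩, rfl⟩
  let c₀ : O := ⟨c, hc⟩
  have hev : ∀ (S : Polynomial O) (x : O), ((S.eval x : O) : v.adicCompletion K) =
      (S.map O.subtype).eval (x : v.adicCompletion K) := fun S x => by
    rw [Polynomial.eval_map]
    exact (Polynomial.eval₂_at_apply O.subtype x).symm
  have hQc : ((Q.eval c₀ : O) : v.adicCompletion K) = P.eval c := by rw [hev, hQ]
  have hQ'c : ((Q.derivative.eval c₀ : O) : v.adicCompletion K) = P.derivative.eval c := by
    rw [hev, ← Polynomial.derivative_map, hQ]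
  have hne : P.derivative.eval c ≠ 0 := fun h => by rw [h, map_zero] at h1; exact zero_ne_one h1
  let w : O := ⟨(P.derivative.eval c)⁻¹, by
    refine (IsDedekindDomain.HeightOneSpectrum.mem_adicCompletionIntegers R K v).2 ?_
    rw [map_inv₀, h1, inv_one]⟩
  have hw : w * Q.derivative.eval c₀ = 1 := by
    apply Subtype.ext
    show (P.derivative.eval c)⁻¹ * ((Q.derivative.eval c₀ : O) : v.adicCompletion K) = 1
    rw [hQ'c, inv_mul_cancel₀ hne]
  let ε := Q.eval c₀
  let step : O → O := fun x => x - w * Q.eval x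
  let r : ℕ → O := fun n => step^[n] c₀
  have hr : ∀ n, r (n + 1) = r n - w * Q.eval (r n) := fun n => by
    show step^[n + 1] c₀ = _
    rw [Function.iterate_succ_apply']
  have key : ∀ n, ε ∣ r n - c₀ ∧ ε ^ (n + 1) ∣ Q.eval (r n) := by
    intro n
    induction n with
    | zero => exact ⟨by simp [r], by simp [r, ε]⟩
    | succ n ih =>
      obtain ⟨hd, hp⟩ := ih
      obtain ⟨s, hs⟩ := hp
      refine ⟨?_, ?_⟩
      · rw [hr, sub_right_comm]
        refine dvd_sub hd (Dvd.intro (w * s * ε ^ n) ?_)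
        rw [hs]; ring
      · rw [hr, sub_eq_add_neg]
        obtain ⟨k', hk'⟩ := Q.binomExpansion (r n) (-(w * Q.eval (r n)))
        obtain ⟨t, ht⟩ : ε ∣ Q.derivative.eval c₀ - Q.derivative.eval (r n) :=
          (dvd_sub_comm.1 hd).trans (Polynomial.sub_dvd_eval_sub _ _ _)
        rw [hk']
        refine Dvd.intro (w * t * s + k' * w ^ 2 * s ^ 2 * ε ^ n) ?_
        have h2 : Q.derivative.eval (r n) = Q.derivative.eval c₀ - ε * t := by rw [← ht]; ring
        rw [h2, hs]
        linear_combination (ε ^ (n + 1) * s) * hw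
  -- the sizes
  have hle : ∀ x : O, Valued.v (x : v.adicCompletion K) ≤ 1 := fun x => x.2
  have hdvd : ∀ {x y : O}, x ∣ y → Valued.v (y : v.adicCompletion K) ≤ Valued.v (x : v.adicCompletion K) := by
    rintro x y ⟨z, rfl⟩
    rw [show ((x * z : O) : v.adicCompletion K) = x * z from rfl, map_mul]
    exact mul_le_of_le_one_right' (hle z)
  have hε : Valued.v (ε : v.adicCompletion K) < 1 := by rw [hQc]; exact h0
  have hpow : ∀ m : ℤ, ∃ N : ℕ, ∀ n ≥ N, Valued.v (ε : v.adicCompletion K) ^ (n + 1) < WithZero.exp m := by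
    intro m
    refine ⟨m.natAbs, fun n hn => ?_⟩
    rcases eq_or_ne (Valued.v (ε : v.adicCompletion K)) 0 with h | h
    · rw [h, zero_pow n.succ_ne_zero]; exact WithZero.exp_pos
    · obtain ⟨e, he⟩ := WithZero.ne_zero_iff_exists.1 h
      rw [← he] at hε ⊢
      change WithZero.exp (Multiplicative.toAdd e) ^ (n + 1) < WithZero.exp m
      have he1 : Multiplicative.toAdd e < 0 := by
        rw [← WithZero.exp_lt_exp, WithZero.exp_zero]; exact hε
      rw [← WithZero.exp_nsmul, WithZero.exp_lt_exp, nsmul_eq_mul]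
      push_cast
      have : (m.natAbs : ℤ) ≤ n := by exact_mod_cast hn
      have h3 : ((n : ℤ) + 1) * Multiplicative.toAdd e ≤ ((n : ℤ) + 1) * (-1) :=
        mul_le_mul_of_nonneg_left (by omega) (by omega)
      have := Int.natAbs_neg m
      omega
  have hsmall : ∀ n k, Valued.v ((r (n + k) : v.adicCompletion K) - r n) ≤
      Valued.v (ε : v.adicCompletion K) ^ (n + 1) := by
    intro n k
    induction k with
    | zero => simp
    | succ k ih =>
      rw [← add_assoc, show ((r (n + k + 1) : v.adicCompletion K) - r n) =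
        ((r (n + k + 1) : v.adicCompletion K) - r (n + k)) + (r (n + k) - r n) by ring]
      refine (Valued.v.map_add _ _).trans (max_le ?_ ih)
      rw [hr, show ((r (n + k) - w * Q.eval (r (n + k)) : O) : v.adicCompletion K) - r (n + k) =
        -((w * Q.eval (r (n + k)) : O) : v.adicCompletion K) by push_cast; ring, Valuation.map_neg]
      refine (hdvd ((key (n + k)).2.trans (dvd_mul_left _ _))).trans ?_
      rw [show ((ε ^ (n + k + 1) : O) : v.adicCompletion K) = (ε : v.adicCompletion K) ^ (n + k + 1) from rfl,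
        map_pow]
      exact pow_le_pow_right_of_le_one' (le_of_lt hε) (by omega)
  have hcauchy : CauchySeq fun n => (r n : v.adicCompletion K) := by
    rw [cauchySeq_iff_tendsto, uniformity_eq_comap_nhds_zero, tendsto_comap_iff, tendsto_def]
    intro s hs
    obtain ⟨m, hm⟩ := exists_ball_subset v hs
    obtain ⟨N, hN⟩ := hpow m
    refine Filter.mem_atTop_sets.2 ⟨(N, N), fun p hp => hm ?_⟩
    obtain ⟨a, b⟩ := p
    obtain ⟨ha, hb⟩ := Prod.mk_le_mk.1 hp
    simp only [Set.mem_setOf_eq, Function.comp_apply, Prod.map]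
    rcases le_total a b with h | h
    · obtain ⟨k, rfl⟩ := Nat.exists_eq_add_of_le h
      exact (hsmall a k).trans_lt (hN a ha)
    · obtain ⟨k, rfl⟩ := Nat.exists_eq_add_of_le h
      rw [Valuation.map_sub_swap]
      exact (hsmall b k).trans_lt (hN b hb)
  obtain ⟨L, hL⟩ := cauchySeq_tendsto_of_complete hcauchy
  refine ⟨L, ?_⟩
  have h2 : Tendsto (fun n => P.eval (r n : v.adicCompletion K)) atTop (𝓝 0) := by
    rw [tendsto_def]
    intro s hs
    obtain ⟨m, hm⟩ := exists_ball_subset v hs
    obtain ⟨N, hN⟩ := hpow m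
    refine Filter.mem_atTop_sets.2 ⟨N, fun n hn => hm ?_⟩
    show Valued.v (P.eval (r n : v.adicCompletion K)) < _
    rw [← hQ, ← hev]
    refine (hdvd (key n).2).trans_lt ?_
    rw [show ((ε ^ (n + 1) : O) : v.adicCompletion K) = (ε : v.adicCompletion K) ^ (n + 1) from rfl,
      map_pow]
    exact hN n hn
  exact tendsto_nhds_unique ((P.continuous.tendsto L).comp hL) h2

end Groth.Agent.NFApprox
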