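import Groth.Agent.NFApprox.CompletionHom

/-!
# Split values of one or two linear polynomials
-/

universe u

open IsDedekindDomain NumberField Topology Filter
open scoped TensorProduct

namespace Groth.Agent.NFApprox

variable {k : Type u} [Field k] [NumberField k]

local notation "𝔓" => HeightOneSpectrum (NumberField.RingOfIntegers k)

/-- Near values of the quotient formula. -/
theorem exists_box {F : Type*} [Field F] [TopologicalSpace F] [IsTopologicalDivisionRing F]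
    (a D B₁ B₂ t : F) (hD : D ≠ 0) (hB₁ : B₁ ≠ 0) (hB₂ : B₂ ≠ 0) (U : Set F) (hU : IsOpen U) (ht : t ∈ U) :
    ∃ V₁ V₂ : Set F, IsOpen V₁ ∧ IsOpen V₂ ∧ B₁ * (t - a) ∈ V₁ ∧ B₂ * (t - (a + D)) ∈ V₂ ∧
      ∀ y₁ ∈ V₁, ∀ y₂ ∈ V₂, a + D * (y₁ / B₁) / (y₁ / B₁ - y₂ / B₂) ∈ U := by
  let f : F × F → F := fun p => a + D * (p.1 / B₁) / (p.1 / B₁ - p.2 / B₂)
  have hne : B₁ * (t - a) / B₁ - B₂ * (t - (a + D)) / B₂ = D := by
    rw [mul_div_cancel_left₀ _ hB₁, mul_div_cancel_left₀ _ hB₂]; abel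
  have hf : ContinuousAt f (B₁ * (t - a), B₂ * (t - (a + D))) := by
    refine continuousAt_const.add (ContinuousAt.div₀
      (continuous_const.mul (continuous_fst.div_const _)).continuousAt
      ((continuous_fst.div_const _).sub (continuous_snd.div_const _)).continuousAt ?_)
    rw [hne]; exact hD
  have hfv : f (B₁ * (t - a), B₂ * (t - (a + D))) = t := by
    simp only [f]
    rw [hne, mul_div_cancel_left₀ _ hD, mul_div_cancel_left₀ _ hB₁]
    abel
  obtain ⟨V₁, hV₁, V₂, hV₂, hsub⟩ := mem_nhds_prod_iff.1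
    (hf.preimage_mem_nhds (hU.mem_nhds (by rw [hfv]; exact ht)))
  obtain ⟨O₁, hO₁V, hO₁, hτ₁⟩ := mem_nhds_iff.1 hV₁
  obtain ⟨O₂, hO₂V, hO₂, hτ₂⟩ := mem_nhds_iff.1 hV₂
  exact ⟨O₁, O₂, hO₁, hO₂, hτ₁, hτ₂, fun y₁ h₁ y₂ h₂ =>
    hsub (Set.mk_mem_prod (hO₁V h₁) (hO₂V h₂) : (y₁, y₂) ∈ _)⟩

/-- One linear polynomial. -/
theorem split_one (L : Type u) [Field L] [NumberField L] [Algebra k L]
    (Sf : Finset 𝔓) (Si : Finset (InfinitePlace k)) (a b : k) (hb : b ≠ 0)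
    (hSb : ∀ v ∉ Sf, v.valuation k b = 1)
    (tf : (v : 𝔓) → v.adicCompletion k) (ti : (w : InfinitePlace k) → w.Completion)
    (htf : ∀ v ∈ Sf, algebraMap k _ b * (tf v - algebraMap k _ a) ≠ 0 ∧
      ∃ x : (v.adicCompletion k) ⊗[k] L, Algebra.norm (v.adicCompletion k) x = algebraMap k _ b * (tf v - algebraMap k _ a))
    (hti : ∀ w ∈ Si, algebraMap k _ b * (ti w - algebraMap k _ a) ≠ 0 ∧
      ∃ x : w.Completion ⊗[k] L, Algebra.norm w.Completion x = algebraMap k _ b * (ti w - algebraMap k _ a))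
    (Uf : (v : 𝔓) → Set (v.adicCompletion k)) (hUf : ∀ v ∈ Sf, IsOpen (Uf v) ∧ tf v ∈ Uf v)
    (Ui : (w : InfinitePlace k) → Set w.Completion) (hUi : ∀ w ∈ Si, IsOpen (Ui w) ∧ ti w ∈ Ui w) :
    ∃ t₀ : k, (∀ v ∈ Sf, algebraMap k (v.adicCompletion k) t₀ ∈ Uf v) ∧
      (∀ w ∈ Si, algebraMap k w.Completion t₀ ∈ Ui w) ∧
      ∀ v ∉ Sf, v.valuation k (t₀ - a) < 1 → Nonempty (L →ₐ[k] v.adicCompletion k) := by
  obtain ⟨v₀, hv₀, hL⟩ := exists_place_degree_one (k := k) (L := L) Sf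
  have hbv : ∀ v : 𝔓, algebraMap k (v.adicCompletion k) b ≠ 0 :=
    fun v => (map_ne_zero_iff _ (algebraMap k _).injective).2 hb
  have hbw : ∀ w : InfinitePlace k, algebraMap k w.Completion b ≠ 0 :=
    fun w => (map_ne_zero_iff _ (algebraMap k _).injective).2 hb
  obtain ⟨t, -, htfU, htiU, -, ht⟩ := exists_near_integral Sf Si
    (fun v => algebraMap k _ b * (tf v - algebraMap k _ a))
    (fun w => algebraMap k _ b * (ti w - algebraMap k _ a)) htf hti
    (fun v => (fun y => algebraMap k _ a + y / algebraMap k _ b) ⁻¹' Uf v)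
    (fun v hv => ⟨(hUf v hv).1.preimage (continuous_const.add (continuous_id.div_const _)), by
      rw [Set.mem_preimage, mul_div_cancel_left₀ _ (hbv v), add_sub_cancel]; exact (hUf v hv).2⟩)
    (fun w => (fun y => algebraMap k _ a + y / algebraMap k _ b) ⁻¹' Ui w)
    (fun w hw => ⟨(hUi w hw).1.preimage (continuous_const.add (continuous_id.div_const _)), by
      rw [Set.mem_preimage, mul_div_cancel_left₀ _ (hbw w), add_sub_cancel]; exact (hUi w hw).2⟩)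
    v₀ hv₀ hL
  refine ⟨a + t / b, fun v hv => ?_, fun w hw => ?_, fun v hv hlt => ?_⟩
  · rw [map_add, map_div₀]; exact htfU v hv
  · rw [map_add, map_div₀]; exact htiU w hw
  · rw [add_sub_cancel_left, map_div₀, hSb v hv, div_one] at hlt
    exact (ht v hv).resolve_left hlt.ne

/-- Two distinct linear polynomials. -/
theorem split_two (L₁ L₂ : Type u) [Field L₁] [NumberField L₁] [Algebra k L₁]
    [Field L₂] [NumberField L₂] [Algebra k L₂]
    (Sf : Finset 𝔓) (Si : Finset (InfinitePlace k)) (a₁ a₂ b₁ b₂ : k) (ha : a₁ ≠ a₂) (hb₁ : b₁ ≠ 0) (hb₂ : b₂ ≠ 0)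
    (hSb : ∀ v ∉ Sf, v.valuation k b₁ = 1 ∧ v.valuation k b₂ = 1)
    (hunit₁ : ∀ v ∉ Sf, ∀ c : k, v.valuation k c = 1 →
      ∃ x : (v.adicCompletion k) ⊗[k] L₁, Algebra.norm (v.adicCompletion k) x = algebraMap k _ c)
    (hunit₂ : ∀ v ∉ Sf, ∀ c : k, v.valuation k c = 1 →
      ∃ x : (v.adicCompletion k) ⊗[k] L₂, Algebra.norm (v.adicCompletion k) x = algebraMap k _ c)
    (tf : (v : 𝔓) → v.adicCompletion k) (ti : (w : InfinitePlace k) → w.Completion)
    (htf₁ : ∀ v ∈ Sf, algebraMap k _ b₁ * (tf v - algebraMap k _ a₁) ≠ 0 ∧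
      ∃ x : (v.adicCompletion k) ⊗[k] L₁, Algebra.norm (v.adicCompletion k) x = algebraMap k _ b₁ * (tf v - algebraMap k _ a₁))
    (htf₂ : ∀ v ∈ Sf, algebraMap k _ b₂ * (tf v - algebraMap k _ a₂) ≠ 0 ∧
      ∃ x : (v.adicCompletion k) ⊗[k] L₂, Algebra.norm (v.adicCompletion k) x = algebraMap k _ b₂ * (tf v - algebraMap k _ a₂))
    (hti₁ : ∀ w ∈ Si, algebraMap k _ b₁ * (ti w - algebraMap k _ a₁) ≠ 0 ∧
      ∃ x : w.Completion ⊗[k] L₁, Algebra.norm w.Completion x = algebraMap k _ b₁ * (ti w - algebraMap k _ a₁))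
    (hti₂ : ∀ w ∈ Si, algebraMap k _ b₂ * (ti w - algebraMap k _ a₂) ≠ 0 ∧
      ∃ x : w.Completion ⊗[k] L₂, Algebra.norm w.Completion x = algebraMap k _ b₂ * (ti w - algebraMap k _ a₂))
    (Uf : (v : 𝔓) → Set (v.adicCompletion k)) (hUf : ∀ v ∈ Sf, IsOpen (Uf v) ∧ tf v ∈ Uf v)
    (Ui : (w : InfinitePlace k) → Set w.Completion) (hUi : ∀ w ∈ Si, IsOpen (Ui w) ∧ ti w ∈ Ui w) :
    ∃ t₀ : k, (∀ v ∈ Sf, algebraMap k (v.adicCompletion k) t₀ ∈ Uf v) ∧
      (∀ w ∈ Si, algebraMap k w.Completion t₀ ∈ Ui w) ∧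
      (∀ v ∉ Sf, v.valuation k (t₀ - a₁) < 1 → Nonempty (L₁ →ₐ[k] v.adicCompletion k)) ∧
      (∀ v ∉ Sf, v.valuation k (t₀ - a₂) < 1 → Nonempty (L₂ →ₐ[k] v.adicCompletion k)) := by
  classical
  set D := a₂ - a₁ with hDdef
  have hD : D ≠ 0 := sub_ne_zero.2 ha.symm
  -- the exceptional places and two auxiliary ones
  let T₀ : Finset 𝔓 := Sf ∪ (finite_not_integral ({D, D⁻¹, (2 : k), 2⁻¹} : Finset k)).toFinset
  have hT₀ : ∀ v ∉ T₀, v ∉ Sf ∧ v.valuation k D = 1 ∧ v.valuation k 2 = 1 := by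
    intro v hv
    obtain ⟨h1, h2⟩ := Finset.notMem_union.1 hv
    have h3 : ∀ x ∈ ({D, D⁻¹, (2 : k), 2⁻¹} : Finset k), v.valuation k x ≤ 1 := fun x hx => by
      by_contra h
      exact h2 ((finite_not_integral _).mem_toFinset.2 ⟨x, hx, h⟩)
    have key : ∀ x : k, x ≠ 0 → v.valuation k x ≤ 1 → v.valuation k x⁻¹ ≤ 1 → v.valuation k x = 1 := by
      intro x hx ha hb
      rw [map_inv₀, inv_le_one₀ (zero_lt_iff.2 ((Valuation.ne_zero_iff _).2 hx))] at hb
      exact le_antisymm ha hb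
    exact ⟨h1, key D hD (h3 _ (by simp)) (h3 _ (by simp)), key 2 two_ne_zero (h3 _ (by simp)) (h3 _ (by simp))⟩
  obtain ⟨v₀, hv₀, hL₁, hL₂⟩ := exists_place_two_degree_one (k := k) L₁ L₂ T₀
  obtain ⟨v₁, hv₁, -⟩ := exists_place_degree_one (k := k) (L := k) (insert v₀ T₀)
  obtain ⟨hv₁0, hv₁T⟩ := Finset.mem_insert.not.1 hv₁ |> not_or.1
  set T := insert v₁ T₀ with hT
  have hSfT : Sf ⊆ T := fun v hv => Finset.mem_insert_of_mem (Finset.mem_union_left _ hv)
  have hv₀T : v₀ ∉ T := fun h => (Finset.mem_insert.1 h).elim (fun h => hv₁0 h.symm) hv₀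
  have hv₁S : v₁ ∉ Sf := (hT₀ v₁ hv₁T).1
  -- targets
  let s : 𝔓 → k := fun v => if v = v₁ then -b₂ else b₂
  have hs : ∀ v ∉ Sf, v.valuation k (s v) = 1 := fun v hv => by
    simp only [s]; split_ifs
    · rw [Valuation.map_neg]; exact (hSb v hv).2
    · exact (hSb v hv).2
  let τ₁ : (v : 𝔓) → v.adicCompletion k := fun v =>
    if v ∈ Sf then algebraMap k _ b₁ * (tf v - algebraMap k _ a₁) else algebraMap k _ b₁
  let τ₂ : (v : 𝔓) → v.adicCompletion k := fun v =>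
    if v ∈ Sf then algebraMap k _ b₂ * (tf v - algebraMap k _ a₂) else algebraMap k _ (s v)
  -- boxes for the quotient formula
  have hinj : ∀ (F : Type u) [Field F] [Algebra k F] (x : k), x ≠ 0 → algebraMap k F x ≠ 0 :=
    fun F _ _ x hx => (map_ne_zero_iff _ (algebraMap k F).injective).2 hx
  have hε : ∀ v : 𝔓, ∃ e : ℤ, WithZero.exp e ≤ 1 ∧ WithZero.exp e ≤ v.valuation k D := fun v => by
    obtain ⟨e, he⟩ := WithZero.ne_zero_iff_exists.1 ((Valuation.ne_zero_iff (v.valuation k)).2 hD)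
    refine ⟨min 0 (Multiplicative.toAdd e), ?_, ?_⟩
    · rw [← WithZero.exp_zero, WithZero.exp_le_exp]; exact min_le_left _ _
    · rw [← he]
      exact (WithZero.exp_le_exp.2 (min_le_right _ _))
  choose ε hε1 hεD using hε
  have hbox : ∀ v : 𝔓, ∃ V₁ V₂ : Set (v.adicCompletion k), IsOpen V₁ ∧ IsOpen V₂ ∧ τ₁ v ∈ V₁ ∧ τ₂ v ∈ V₂ ∧
      (∀ y₁ ∈ V₁, ∀ y₂ ∈ V₂, v ∈ Sf → algebraMap k _ a₁ + algebraMap k _ D * (y₁ / algebraMap k _ b₁) /
          (y₁ / algebraMap k _ b₁ - y₂ / algebraMap k _ b₂) ∈ Uf v) ∧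
      (∀ x : k, algebraMap k _ x ∈ V₁ → v ∉ Sf → v.valuation k (x - b₁) < WithZero.exp (ε v)) ∧
      (∀ x : k, algebraMap k _ x ∈ V₂ → v ∉ Sf → v.valuation k (x - s v) < WithZero.exp (ε v)) := by
    intro v
    by_cases hvS : v ∈ Sf
    · obtain ⟨V₁, V₂, h₁, h₂, h₃, h₄, h₅⟩ := exists_box (algebraMap k (v.adicCompletion k) a₁) (algebraMap k _ D)
        (algebraMap k _ b₁) (algebraMap k _ b₂) (tf v) (hinj _ _ hD) (hinj _ _ hb₁) (hinj _ _ hb₂) (Uf v)
        (hUf v hvS).1 (hUf v hvS).2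
      refine ⟨V₁, V₂, h₁, h₂, ?_, ?_, fun y hy z hz _ => h₅ y hy z hz, fun x _ h => absurd hvS h,
        fun x _ h => absurd hvS h⟩
      · simp only [τ₁, if_pos hvS]; exact h₃
      · simp only [τ₂, if_pos hvS]
        rw [hDdef, map_sub, add_sub_cancel] at h₄
        exact h₄
    · refine ⟨{y | Valued.v (y - τ₁ v) < WithZero.exp (ε v)}, {y | Valued.v (y - τ₂ v) < WithZero.exp (ε v)},
        (isOpen_lt_exp v _).preimage (continuous_id.sub continuous_const),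
        (isOpen_lt_exp v _).preimage (continuous_id.sub continuous_const),
        by simp [WithZero.exp_pos], by simp [WithZero.exp_pos], fun _ _ _ _ h => absurd h hvS, ?_, ?_⟩
      · intro x hx _
        simp only [τ₁, if_neg hvS, Set.mem_setOf_eq] at hx
        rwa [← map_sub, valued_algebraMap] at hx
      · intro x hx _
        simp only [τ₂, if_neg hvS, Set.mem_setOf_eq] at hx
        rwa [← map_sub, valued_algebraMap] at hx
  choose V₁ V₂ hV₁ hV₂ hτ₁ hτ₂ hVS hV₁n hV₂n using hbox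
  have hboxi : ∀ w ∈ Si, ∃ V₁ V₂ : Set w.Completion, IsOpen V₁ ∧ IsOpen V₂ ∧
      algebraMap k _ b₁ * (ti w - algebraMap k _ a₁) ∈ V₁ ∧ algebraMap k _ b₂ * (ti w - algebraMap k _ a₂) ∈ V₂ ∧
      ∀ y₁ ∈ V₁, ∀ y₂ ∈ V₂, algebraMap k _ a₁ + algebraMap k _ D * (y₁ / algebraMap k _ b₁) /
          (y₁ / algebraMap k _ b₁ - y₂ / algebraMap k _ b₂) ∈ Ui w := by
    intro w hw
    obtain ⟨V₁, V₂, h₁, h₂, h₃, h₄, h₅⟩ := exists_box (algebraMap k w.Completion a₁) (algebraMap k _ D)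
      (algebraMap k _ b₁) (algebraMap k _ b₂) (ti w) (hinj _ _ hD) (hinj _ _ hb₁) (hinj _ _ hb₂) (Ui w)
      (hUi w hw).1 (hUi w hw).2
    rw [hDdef, map_sub, add_sub_cancel] at h₄
    exact ⟨V₁, V₂, h₁, h₂, h₃, h₄, h₅⟩
  choose! I₁ I₂ hI₁ hI₂ hι₁ hι₂ hI using hboxi
  obtain ⟨x₁, -, hx₁f, hx₁i, hx₁int, hx₁d⟩ := exists_near_integral (L := L₁) T Si τ₁ _
    (fun v hv => by
      by_cases h : v ∈ Sf
      · simp only [τ₁, if_pos h]; exact htf₁ v h
      · simp only [τ₁, if_neg h]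
        exact ⟨(map_ne_zero_iff _ (algebraMap k _).injective).2 hb₁, hunit₁ v h b₁ (hSb v h).1⟩)
    hti₁ V₁ (fun v _ => ⟨hV₁ v, hτ₁ v⟩) I₁ (fun w hw => ⟨hI₁ w hw, hι₁ w hw⟩) v₀ hv₀T hL₁
  obtain ⟨x₂, -, hx₂f, hx₂i, hx₂int, hx₂d⟩ := exists_near_integral (L := L₂) T Si τ₂ _
    (fun v hv => by
      by_cases h : v ∈ Sf
      · simp only [τ₂, if_pos h]; exact htf₂ v h
      · simp only [τ₂, if_neg h]
        exact ⟨(map_ne_zero_iff _ (algebraMap k _).injective).2 (fun h0 => by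
          have := hs v h; rw [h0, map_zero] at this; exact zero_ne_one this), hunit₂ v h _ (hs v h)⟩)
    hti₂ V₂ (fun v _ => ⟨hV₂ v, hτ₂ v⟩) I₂ (fun w hw => ⟨hI₂ w hw, hι₂ w hw⟩) v₀ hv₀T hL₂
  -- the auxiliary place keeps the denominator nonzero
  set X := x₁ / b₁ with hX
  set Y := x₂ / b₂ with hY
  have hne : ∀ v ∈ T, v ∉ Sf → v.valuation k X = 1 ∧ v.valuation k Y = 1 ∧
      v.valuation k (X - Y) ≤ 1 ∧
      (v ≠ v₁ → v.valuation k (X - Y) < v.valuation k D) ∧ (v = v₁ → v.valuation k (X - Y) = 1) := by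
    intro v hv hvS
    obtain ⟨hb1, hb2⟩ := hSb v hvS
    have h1 := hV₁n v x₁ (hx₁f v hv) hvS
    have h2 := hV₂n v x₂ (hx₂f v hv) hvS
    have hd1 : v.valuation k (X - 1) < WithZero.exp (ε v) := by
      rwa [hX, div_sub_one hb₁, map_div₀, hb1, div_one]
    have hd2 : v.valuation k (Y - s v / b₂) < WithZero.exp (ε v) := by
      rwa [hY, ← sub_div, map_div₀, hb2, div_one]
    have hc : v.valuation k (s v / b₂) = 1 := by rw [map_div₀, hs v hvS, hb2, div_one]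
    have hX1 : v.valuation k X = 1 := by
      rw [← (v.valuation k).map_one (R := k)]
      exact Valuation.map_eq_of_sub_lt _ (by rw [map_one]; exact hd1.trans_le (hε1 v))
    have hY1 : v.valuation k Y = 1 := by
      rw [← hc]
      exact Valuation.map_eq_of_sub_lt _ (by rw [hc]; exact hd2.trans_le (hε1 v))
    have hdec : X - Y = ((X - 1) - (Y - s v / b₂)) + (1 - s v / b₂) := by ring
    have hsm : v.valuation k ((X - 1) - (Y - s v / b₂)) < WithZero.exp (ε v) :=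
      (Valuation.map_sub _ _ _).trans_lt (max_lt hd1 hd2)
    refine ⟨hX1, hY1, (Valuation.map_sub _ _ _).trans (max_le hX1.le hY1.le), fun hv1 => ?_, fun hv1 => ?_⟩
    · rw [hdec, show s v = b₂ by simp [s, hv1], div_self hb₂, sub_self, add_zero]
      rw [show s v / b₂ = 1 by simp [s, hv1, div_self hb₂]] at hsm
      exact hsm.trans_le (hεD v)
    · subst hv1
      obtain ⟨-, -, h2'⟩ := hT₀ v hv₁T
      have h3 : v.valuation k (1 - s v / b₂) = 1 := by
        simp only [s, if_true]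
        rw [neg_div, div_self hb₂, sub_neg_eq_add, one_add_one_eq_two, h2']
      rw [hdec, Valuation.map_add_eq_of_lt_right _ (by rw [h3]; exact hsm.trans_le (hε1 v)), h3]
  have hXY : X - Y ≠ 0 := fun h => by
    have := (hne v₁ (Finset.mem_insert_self _ _) hv₁S).2.2.2.2 rfl
    rw [h, map_zero] at this
    exact zero_ne_one this
  have hmap : ∀ (F : Type u) [Field F] [Algebra k F],
      algebraMap k F (a₁ + D * X / (X - Y)) = algebraMap k F a₁ + algebraMap k F D *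
        (algebraMap k F x₁ / algebraMap k F b₁) /
          (algebraMap k F x₁ / algebraMap k F b₁ - algebraMap k F x₂ / algebraMap k F b₂) := fun F _ _ => by
    simp only [hX, hY, map_add, map_div₀, map_mul, map_sub]
  have hsub₂ : a₁ + D * X / (X - Y) - a₂ = D * Y / (X - Y) := by
    rw [sub_eq_iff_eq_add, div_add' _ _ _ hXY, add_div' _ _ _ hXY, hDdef]
    congr 1
    ring
  refine ⟨a₁ + D * X / (X - Y), fun v hv => ?_, fun w hw => ?_, fun v hv hlt => ?_, fun v hv hlt => ?_⟩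
  · rw [hmap]
    exact hVS v _ (hx₁f v (hSfT hv)) _ (hx₂f v (hSfT hv)) hv
  · rw [hmap]
    exact hI w hw _ (hx₁i w hw) _ (hx₂i w hw)
  · rw [add_sub_cancel_left, map_div₀, map_mul, div_lt_one₀ (zero_lt_iff.2 ((Valuation.ne_zero_iff _).2 hXY))] at hlt
    by_cases hvT : v ∈ T
    · exfalso
      obtain ⟨h1, h2, h3, h4, h5⟩ := hne v hvT hv
      rw [h1, mul_one] at hlt
      by_cases hv1 : v = v₁
      · rw [h5 hv1, hv1, (hT₀ v₁ hv₁T).2.1] at hlt
        exact lt_irrefl _ hlt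
      · exact lt_asymm hlt (h4 hv1)
    · rw [(hT₀ v fun h => hvT (Finset.mem_insert_of_mem h)).2.1, one_mul] at hlt
      by_cases hv0 : v = v₀
      · exact hv0 ▸ hL₁
      refine (hx₁d v hvT).resolve_left fun h => ?_
      rw [hX, map_div₀, (hSb v hv).1, h, div_one] at hlt
      refine not_le.2 hlt ((Valuation.map_sub _ _ _).trans (max_le ?_ ?_))
      · rw [map_div₀, (hSb v hv).1, h, div_one]
      · rw [hY, map_div₀, (hSb v hv).2, div_one]; exact hx₂int v hvT hv0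
  · rw [hsub₂, map_div₀, map_mul, div_lt_one₀ (zero_lt_iff.2 ((Valuation.ne_zero_iff _).2 hXY))] at hlt
    by_cases hvT : v ∈ T
    · exfalso
      obtain ⟨h1, h2, h3, h4, h5⟩ := hne v hvT hv
      rw [h2, mul_one] at hlt
      by_cases hv1 : v = v₁
      · rw [h5 hv1, hv1, (hT₀ v₁ hv₁T).2.1] at hlt
        exact lt_irrefl _ hlt
      · exact lt_asymm hlt (h4 hv1)
    · rw [(hT₀ v fun h => hvT (Finset.mem_insert_of_mem h)).2.1, one_mul] at hlt
      by_cases hv0 : v = v₀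
      · exact hv0 ▸ hL₂
      refine (hx₂d v hvT).resolve_left fun h => ?_
      rw [hY, map_div₀, (hSb v hv).2, h, div_one] at hlt
      refine not_le.2 hlt ((Valuation.map_sub _ _ _).trans (max_le ?_ ?_))
      · rw [hX, map_div₀, (hSb v hv).1, div_one]; exact hx₁int v hvT hv0
      · rw [map_div₀, (hSb v hv).2, h, div_one]

end Groth.Agent.NFApprox
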