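import Groth.Agent.NFApprox.CompletionHom
import Mathlib.FieldTheory.IntermediateField.Adjoin.Algebra

/-!
# Split values of one quadratic polynomial
-/

universe u

open IsDedekindDomain NumberField Topology Filter
open scoped TensorProduct

namespace Groth.Agent.NFApprox

variable {k K : Type u} [Field k] [NumberField k] [Field K] [NumberField K] [Algebra k K]

local notation "𝔓" => HeightOneSpectrum (NumberField.RingOfIntegers k)
local notation "OK" => NumberField.RingOfIntegers K

/-- The place below. -/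
theorem exists_under (W : HeightOneSpectrum OK) : ∃ v : 𝔓, W.asIdeal.LiesOver v.asIdeal :=
  ⟨⟨W.asIdeal.under _, inferInstance, Ideal.under_ne_bot _ W.ne_bot⟩, ⟨rfl⟩⟩

/-- Finitely many places above. -/
theorem finite_over (v : 𝔓) : {W : HeightOneSpectrum OK | W.asIdeal.LiesOver v.asIdeal}.Finite := by
  obtain ⟨p, hp, hp0⟩ := Submodule.exists_mem_ne_zero_of_ne_bot v.ne_bot
  refine (finite_places_mem (k := K) ((map_ne_zero_iff _ (FaithfulSMul.algebraMap_injective
    (NumberField.RingOfIntegers k) OK)).2 hp0)).subset fun W hW => ?_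
  haveI : W.asIdeal.LiesOver v.asIdeal := hW
  exact (Ideal.mem_of_liesOver W.asIdeal v.asIdeal p).1 hp

/-- A place outside a finite set above which the extension splits everywhere. -/
theorem exists_place_all_degree_one (L : Type u) [Field L] [NumberField L] [Algebra K L] [Algebra k L]
    [IsScalarTower k K L] (T : Finset 𝔓) :
    ∃ v ∉ T, ∀ W : HeightOneSpectrum OK, W.asIdeal.LiesOver v.asIdeal →
      Nonempty (L →ₐ[K] W.adicCompletion K) := by
  classical
  let Ω := AlgebraicClosure k
  let M : IntermediateField k Ω := IntermediateField.normalClosure k L Ω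
  haveI : NumberField M := NumberField.of_module_finite k M
  obtain ⟨v, hv, ⟨φ⟩⟩ := exists_place_degree_one (k := k) (L := M) T
  refine ⟨v, hv, fun W hW => ?_⟩
  haveI := hW
  obtain ⟨f, -, hf⟩ := exists_completion_hom v W
  letI : Algebra M (W.adicCompletion K) := (f.comp φ.toRingHom).toAlgebra
  let g : M →+* W.adicCompletion K := f.comp φ.toRingHom
  have hg : ∀ c : k, g (algebraMap k M c) = algebraMap K _ (algebraMap k K c) := fun c => by
    show f (φ (algebraMap k M c)) = _
    rw [φ.commutes, hf]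
  obtain ⟨θ, hθ⟩ := Field.exists_primitive_element k K
  set P := minpoly k θ with hP
  -- the polynomial of a generator splits in the normal closure
  have hsplit : (P.map (algebraMap k M)).Splits := by
    obtain ⟨ι⟩ : Nonempty (L →ₐ[k] M) :=
      ⟨AlgHom.codRestrict (IsAlgClosed.lift : L →ₐ[k] Ω) M.toSubalgebra
        (fun x => AlgHom.fieldRange_le_normalClosure (IsAlgClosed.lift : L →ₐ[k] Ω) ⟨x, rfl⟩)⟩
    haveI : Normal k M := inferInstance
    have := Normal.splits (F := k) (inferInstance : Normal k M) (ι (algebraMap K L θ))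
    rwa [minpoly.algHom_eq ι ι.injective, minpoly.algebraMap_eq (algebraMap K L).injective] at this
  have hroot : (P.map (algebraMap k (W.adicCompletion K))).IsRoot (algebraMap K _ θ) := by
    rw [Polynomial.IsRoot, Polynomial.eval_map, ← Polynomial.aeval_def, Polynomial.aeval_algebraMap_apply,
      minpoly.aeval, map_zero]
  obtain ⟨r, hr, hgr⟩ : ∃ r : M, Polynomial.aeval r P = 0 ∧ g r = algebraMap K _ θ := by
    have hne : P.map (algebraMap k M) ≠ 0 :=
      (Polynomial.map_ne_zero_iff (algebraMap k M).injective).2 (minpoly.ne_zero (.of_finite k θ))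
    have hmap : (P.map (algebraMap k M)).map g = P.map (algebraMap k (W.adicCompletion K)) := by
      rw [Polynomial.map_map]
      congr 1
      exact RingHom.ext fun c => (hg c).trans (IsScalarTower.algebraMap_apply k K _ c).symm
    have h1 : algebraMap K (W.adicCompletion K) θ ∈ ((P.map (algebraMap k M)).map g).roots :=
      (Polynomial.mem_roots (Polynomial.map_ne_zero hne)).2 (hmap ▸ hroot)
    rw [hsplit.roots_map, Multiset.mem_map] at h1
    obtain ⟨r, hr, hr'⟩ := h1
    refine ⟨r, ?_, hr'⟩
    rw [Polynomial.aeval_def, ← Polynomial.eval_map]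
    exact (Polynomial.mem_roots hne).1 hr
  let pb := (IntermediateField.adjoin.powerBasis (K := k) (Algebra.IsIntegral.isIntegral θ)).map
    ((IntermediateField.equivOfEq hθ).trans IntermediateField.topEquiv)
  have hpb : pb.gen = θ := by simp [pb]
  let τ : K →ₐ[k] M := pb.lift r (by rw [hpb, ← hP]; exact hr)
  have hτθ : τ θ = r := by rw [← hpb]; exact PowerBasis.lift_gen _ _ _
  -- extend to the big field
  letI : Algebra K Ω := ((M.val.comp τ).toRingHom).toAlgebra
  haveI : IsScalarTower k K Ω := IsScalarTower.of_algebraMap_eq fun c => ((M.val.comp τ).commutes c).symm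
  haveI : Algebra.IsAlgebraic K L := inferInstance
  let ψ : L →ₐ[K] Ω := IsAlgClosed.lift
  have hmem : ∀ x, ψ.restrictScalars k x ∈ M := fun x =>
    AlgHom.fieldRange_le_normalClosure (ψ.restrictScalars k) ⟨x, rfl⟩
  let ψ' : L →ₐ[k] M := AlgHom.codRestrict (ψ.restrictScalars k) M.toSubalgebra hmem
  have hψ' : ∀ c : K, ψ' (algebraMap K L c) = τ c := fun c => Subtype.ext (ψ.commutes c)
  have hfull : ∀ c : K, g (τ c) = algebraMap K _ c := by
    have h2 : ({ g.comp τ.toRingHom with commutes' := fun c => (by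
        show g (τ (algebraMap k K c)) = _
        rw [τ.commutes, hg]
        exact (IsScalarTower.algebraMap_apply k K _ c).symm) } : K →ₐ[k] W.adicCompletion K) =
        IsScalarTower.toAlgHom k K _ :=
      pb.algHom_ext (by rw [hpb]; show g (τ θ) = _; rw [hτθ, hgr]; rfl)
    exact fun c => AlgHom.congr_fun h2 c
  refine ⟨{ g.comp ψ'.toRingHom with commutes' := ?_ }⟩
  intro c
  show g (ψ' (algebraMap K L c)) = _
  rw [hψ', hfull]

/-- Norms are compatible with change of the base ring. -/
theorem exists_norm_map (R₀ F L : Type u) [Field R₀] [Algebra k R₀] [Field F] [Algebra K F] [Field L] [NumberField L]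
    [Algebra K L] [Algebra k L] [IsScalarTower k K L] (f : R₀ →+* F)
    (hf : ∀ c : k, f (algebraMap k R₀ c) = algebraMap K F (algebraMap k K c))
    (b a : K) (t : R₀) :
    letI := (Algebra.TensorProduct.map (AlgHom.id k R₀) (IsScalarTower.toAlgHom k K L)).toRingHom.toAlgebra
    ∀ x : R₀ ⊗[k] L, IsUnit x →
      Algebra.norm (R₀ ⊗[k] K) x = (1 : R₀) ⊗ₜ[k] b * (t ⊗ₜ[k] (1 : K) - (1 : R₀) ⊗ₜ[k] a) →
      algebraMap K F b * (f t - algebraMap K F a) ≠ 0 ∧
        ∃ y : F ⊗[K] L, Algebra.norm F y = algebraMap K F b * (f t - algebraMap K F a) := by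
  classical
  letI := (Algebra.TensorProduct.includeRight : K →ₐ[k] R₀ ⊗[k] K).toRingHom.toAlgebra
  letI := (Algebra.TensorProduct.map (AlgHom.id k R₀) (IsScalarTower.toAlgHom k K L)).toRingHom.toAlgebra
  intro x hxu hx
  letI : Algebra k F := ((algebraMap K F).comp (algebraMap k K)).toAlgebra
  haveI : IsScalarTower k K F := IsScalarTower.of_algebraMap_eq fun _ => rfl
  let f' : R₀ →ₐ[k] F := { f with commutes' := hf }
  let φ₀ : R₀ ⊗[k] K →ₐ[k] F :=
    Algebra.TensorProduct.lift f' (IsScalarTower.toAlgHom k K F) fun _ _ => Commute.all _ _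
  let φ : R₀ ⊗[k] K →ₐ[K] F :=
    { φ₀.toRingHom with
      commutes' := fun c => by
        show φ₀ ((1 : R₀) ⊗ₜ[k] c) = algebraMap K F c
        rw [Algebra.TensorProduct.lift_tmul, map_one, one_mul]; rfl }
  have hval : φ ((1 : R₀) ⊗ₜ[k] b * (t ⊗ₜ[k] (1 : K) - (1 : R₀) ⊗ₜ[k] a)) =
      algebraMap K F b * (f t - algebraMap K F a) := by
    show φ₀ _ = _
    simp only [φ₀, map_mul, map_sub, Algebra.TensorProduct.lift_tmul, map_one, one_mul, mul_one]
    rfl
  obtain ⟨e, -⟩ := exists_cancel_equiv (k := k) (K := K) R₀ L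
  let γ := Module.finBasis K L
  let bR := Algebra.TensorProduct.basis (R₀ ⊗[k] K) γ
  let bF := Algebra.TensorProduct.basis F γ
  let Φ := Algebra.TensorProduct.map φ (AlgHom.id K L)
  have hmat : ∀ z : (R₀ ⊗[k] K) ⊗[K] L,
      Algebra.leftMulMatrix bF (Φ z) = (Algebra.leftMulMatrix bR z).map φ := by
    intro z
    induction z using TensorProduct.induction_on with
    | zero => simp
    | add u v hu hv => rw [map_add, map_add, map_add, hu, hv, Matrix.map_add _ (map_add φ)]
    | tmul r l =>
      rw [show Φ (r ⊗ₜ[K] l) = φ r • ((1 : F) ⊗ₜ[K] l) by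
          rw [Algebra.TensorProduct.map_tmul, TensorProduct.smul_tmul', smul_eq_mul, mul_one]; rfl,
        show r ⊗ₜ[K] l = r • ((1 : R₀ ⊗[k] K) ⊗ₜ[K] l) by
          rw [TensorProduct.smul_tmul', smul_eq_mul, mul_one],
        map_smul, map_smul, leftMulMatrix_one_tmul, leftMulMatrix_one_tmul]
      ext i j
      simp only [Matrix.smul_apply, Matrix.map_apply, smul_eq_mul, map_mul, AlgHom.commutes]
  have hu : IsUnit (φ (Algebra.norm (R₀ ⊗[k] K) x)) := (hxu.map _).map φ
  rw [hx, hval] at hu
  refine ⟨hu.ne_zero, Φ (e.symm x), ?_⟩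
  rw [Algebra.norm_eq_matrix_det bF, hmat, ← hval, ← hx, ← Algebra.norm_eq_of_algEquiv e.symm x,
    Algebra.norm_eq_matrix_det bR]
  exact (φ.map_det _).symm

/-- Coordinates are small when all absolute values are. -/
theorem exists_coord_bound_infinite (hdeg : Module.finrank k K = 2) (a : K) (bs : Module.Basis (Fin 2) k K)
    (hbs0 : bs 0 = 1) (hbs1 : bs 1 = a) (w : InfinitePlace k) {ε : ℝ} (hε : 0 < ε) :
    ∃ δ > 0, ∀ e : K, (∀ P : InfinitePlace K, P.comap (algebraMap k K) = w → P e < δ) →
      w (bs.repr e 0) < ε ∧ w (bs.repr e 1) < ε := by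
  letI : Algebra k ℂ := w.embedding.toAlgebra
  obtain ⟨ψ₁, ψ₂, hne⟩ : ∃ ψ₁ ψ₂ : K →ₐ[k] ℂ, ψ₁ ≠ ψ₂ := by
    have h := AlgHom.card k K ℂ
    rw [hdeg] at h
    obtain ⟨x, y, hxy⟩ := Fintype.one_lt_card_iff.1 (show 1 < Fintype.card (K →ₐ[k] ℂ) by omega)
    exact ⟨x, y, hxy⟩
  have hsum : ∀ (ψ : K →ₐ[k] ℂ) (e : K), ψ e = w.embedding (bs.repr e 0) + w.embedding (bs.repr e 1) * ψ a := by
    intro ψ e
    conv_lhs => rw [← bs.sum_repr e, Fin.sum_univ_two, hbs0, hbs1, Algebra.smul_def, Algebra.smul_def, mul_one,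
      map_add, map_mul, ψ.commutes, ψ.commutes]
    rfl
  have hd : ψ₁ a - ψ₂ a ≠ 0 := fun h => hne (AlgHom.ext fun e => by rw [hsum ψ₁ e, hsum ψ₂ e, sub_eq_zero.1 h])
  have hnorm : ∀ (ψ : K →ₐ[k] ℂ) (e : K), ‖ψ e‖ = InfinitePlace.mk ψ.toRingHom e :=
    fun ψ e => (InfinitePlace.apply _ _).symm
  have hover : ∀ ψ : K →ₐ[k] ℂ, (InfinitePlace.mk ψ.toRingHom).comap (algebraMap k K) = w := fun ψ => by
    rw [InfinitePlace.comap_mk, show ψ.toRingHom.comp (algebraMap k K) = w.embedding from RingHom.ext ψ.commutes,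
      InfinitePlace.mk_embedding]
  set C := ‖ψ₁ a - ψ₂ a‖ with hC
  have hC0 : 0 < C := norm_pos_iff.2 hd
  set A := 1 + ‖ψ₁ a‖ with hA
  have hA0 : 0 < A := by rw [hA]; positivity
  refine ⟨min (ε / 2) (ε * C / (4 * A)), lt_min (half_pos hε) (by positivity), fun e he => ?_⟩
  have h1 := he _ (hover ψ₁)
  have h2 := he _ (hover ψ₂)
  rw [← hnorm] at h1 h2
  have hA1 : 1 ≤ A := le_add_of_nonneg_right (norm_nonneg _)
  have hq : ‖w.embedding (bs.repr e 1)‖ * C < ε * C / (2 * A) := by
    rw [hC, ← norm_mul, show w.embedding (bs.repr e 1) * (ψ₁ a - ψ₂ a) = ψ₁ e - ψ₂ e by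
      rw [hsum ψ₁ e, hsum ψ₂ e]; ring]
    refine (norm_sub_le _ _).trans_lt ?_
    have h3 := h1.trans_le (min_le_right _ _)
    have h4 := h2.trans_le (min_le_right _ _)
    have h5 : ε * C / (2 * A) = ε * C / (4 * A) + ε * C / (4 * A) := by ring
    linarith
  have hq' : ‖w.embedding (bs.repr e 1)‖ < ε / (2 * A) := by
    rw [mul_comm ε C, mul_div_assoc, mul_comm C] at hq
    exact lt_of_mul_lt_mul_right hq hC0.le
  rw [← InfinitePlace.norm_embedding_eq, ← InfinitePlace.norm_embedding_eq]
  constructor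
  · have h3 : w.embedding (bs.repr e 0) = ψ₁ e - w.embedding (bs.repr e 1) * ψ₁ a := by rw [hsum ψ₁ e]; ring
    rw [h3]
    refine (norm_sub_le _ _).trans_lt ?_
    rw [norm_mul]
    have h4 : ‖w.embedding (bs.repr e 1)‖ * ‖ψ₁ a‖ ≤ ε / (2 * A) * A :=
      mul_le_mul hq'.le (by rw [hA]; linarith) (norm_nonneg _) (by positivity)
    have h5 : ε / (2 * A) * A = ε / 2 := by field_simp
    have h6 := h1.trans_le (min_le_left _ _)
    linarith
  · refine hq'.trans_le ?_
    rw [div_le_iff₀ (by positivity)]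
    nlinarith

/-- Near values of the ratio. -/
theorem exists_ratio_nhds {F : Type*} [Field F] [TopologicalSpace F] [IsTopologicalDivisionRing F]
    (t : F) (U : Set F) (hU : IsOpen U) (ht : t ∈ U) :
    ∃ V₁ ∈ 𝓝 t, ∃ V₂ ∈ 𝓝 (-1 : F), ∀ x ∈ V₁, ∀ y ∈ V₂, -x / y ∈ U := by
  let g : F × F → F := fun p => -p.1 / p.2
  have hg : ContinuousAt g (t, -1) :=
    ContinuousAt.div₀ continuous_fst.neg.continuousAt continuous_snd.continuousAt (by simp)
  obtain ⟨V₁, hV₁, V₂, hV₂, hsub⟩ := mem_nhds_prod_iff.1 (hg.preimage_mem_nhds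
    (hU.mem_nhds (by simpa [g, neg_div_neg_eq] using ht)))
  exact ⟨V₁, hV₁, V₂, hV₂, fun x hx y hy => hsub (Set.mk_mem_prod hx hy : (x, y) ∈ _)⟩

/-- One quadratic polynomial. -/
theorem split_quad (hdeg : Module.finrank k K = 2) (a : K) (ha : IntermediateField.adjoin k {a} = ⊤)
    (L : Type u) [Field L] [NumberField L] [Algebra K L] [Algebra k L] [IsScalarTower k K L]
    (b : K) (hb : b ≠ 0) (Sf : Finset 𝔓) (Si : Finset (InfinitePlace k))
    (hSb : ∀ W : HeightOneSpectrum OK, W.valuation K b ≠ 1 → ∃ v ∈ Sf, W.asIdeal.LiesOver v.asIdeal)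
    (hunr : ∀ W : HeightOneSpectrum OK, (¬ ∃ v ∈ Sf, W.asIdeal.LiesOver v.asIdeal) →
      ∀ Q : Ideal (NumberField.RingOfIntegers L), Q.IsPrime → Q.LiesOver W.asIdeal → Q.ramificationIdx OK = 1)
    (tf : (v : 𝔓) → v.adicCompletion k) (ti : (w : InfinitePlace k) → w.Completion)
    (htf : ∀ v ∈ Sf,
      letI := (Algebra.TensorProduct.map (AlgHom.id k (v.adicCompletion k))
        (IsScalarTower.toAlgHom k K L)).toRingHom.toAlgebra
      ∃ x : (v.adicCompletion k) ⊗[k] L, IsUnit x ∧
        Algebra.norm ((v.adicCompletion k) ⊗[k] K) x =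
          (1 : v.adicCompletion k) ⊗ₜ[k] b * (tf v ⊗ₜ[k] (1 : K) - (1 : v.adicCompletion k) ⊗ₜ[k] a))
    (hti : ∀ w ∈ Si,
      letI := (Algebra.TensorProduct.map (AlgHom.id k w.Completion)
        (IsScalarTower.toAlgHom k K L)).toRingHom.toAlgebra
      ∃ x : w.Completion ⊗[k] L, IsUnit x ∧
        Algebra.norm (w.Completion ⊗[k] K) x =
          (1 : w.Completion) ⊗ₜ[k] b * (ti w ⊗ₜ[k] (1 : K) - (1 : w.Completion) ⊗ₜ[k] a))
    (Uf : (v : 𝔓) → Set (v.adicCompletion k)) (hUf : ∀ v ∈ Sf, IsOpen (Uf v) ∧ tf v ∈ Uf v)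
    (Ui : (w : InfinitePlace k) → Set w.Completion) (hUi : ∀ w ∈ Si, IsOpen (Ui w) ∧ ti w ∈ Ui w) :
    ∃ t₀ : k, (∀ v ∈ Sf, algebraMap k (v.adicCompletion k) t₀ ∈ Uf v) ∧
      (∀ w ∈ Si, algebraMap k w.Completion t₀ ∈ Ui w) ∧
      ∀ W : HeightOneSpectrum OK, W.valuation K (algebraMap k K t₀ - a) < 1 →
        (∃ v ∈ Sf, W.asIdeal.LiesOver v.asIdeal) ∨ Nonempty (L →ₐ[K] W.adicCompletion K) := by
  classical
  -- the coordinates
  have hali : LinearIndependent k ![(1 : K), a] := by
    rw [LinearIndependent.pair_iff' one_ne_zero]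
    intro c hc
    have hbot : IntermediateField.adjoin k {a} = ⊥ := by
      rw [IntermediateField.adjoin_simple_eq_bot_iff, IntermediateField.mem_bot]
      exact ⟨c, by rw [← hc, Algebra.smul_def, mul_one]⟩
    have h1 := IntermediateField.finrank_top' (F := k) (E := K)
    rw [← ha, hbot, IntermediateField.finrank_bot, hdeg] at h1
    omega
  let bs : Module.Basis (Fin 2) k K :=
    basisOfLinearIndependentOfCardEqFinrank hali (by rw [Fintype.card_fin, hdeg])
  have hbs0 : bs 0 = 1 := by simp [bs]
  have hbs1 : bs 1 = a := by simp [bs]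
  let P : K → k := fun e => bs.repr e 0
  let Q : K → k := fun e => bs.repr e 1
  have hdec : ∀ e : K, e = algebraMap k K (P e) + algebraMap k K (Q e) * a := fun e => by
    conv_lhs => rw [← bs.sum_repr e, Fin.sum_univ_two, hbs0, hbs1, Algebra.smul_def, Algebra.smul_def, mul_one]
  have hcoord : ∀ r : k, P (algebraMap k K r - a) = r ∧ Q (algebraMap k K r - a) = -1 := by
    intro r
    have h : algebraMap k K r - a = r • bs 0 - bs 1 := by rw [hbs0, hbs1, Algebra.smul_def, mul_one]
    simp [P, Q, h, map_sub, map_smul]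
  have hQ1 : Q 1 = 0 := by
    show bs.repr 1 1 = 0
    rw [← hbs0, bs.repr_self]; simp
  -- an integral element with nonzero second coordinate
  obtain ⟨j₀, hj₀⟩ : ∃ j, Q ((NumberField.RingOfIntegers.basis K j : OK) : K) ≠ 0 := by
    by_contra! h
    have hlin : ((bs.coord 1).restrictScalars ℚ) = 0 := (NumberField.integralBasis K).ext fun j => by
      rw [LinearMap.zero_apply, NumberField.integralBasis_apply]
      exact h j
    have := LinearMap.congr_fun hlin a
    rw [LinearMap.zero_apply, LinearMap.restrictScalars_apply, Module.Basis.coord_apply, ← hbs1, bs.repr_self] at this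
    simp at this
  -- the places
  let T₀ : Finset 𝔓 := Sf ∪ (finite_not_integral
    ((Finset.univ.image fun p : Module.Free.ChooseBasisIndex ℤ OK × Fin 2 =>
      bs.repr ((NumberField.RingOfIntegers.basis K p.1 : OK) : K) p.2))).toFinset
  have hgood : ∀ v ∉ T₀, ∀ e : K, (∀ W : HeightOneSpectrum OK, W.asIdeal.LiesOver v.asIdeal →
      W.valuation K e ≤ 1) → ∀ i, v.valuation k (bs.repr e i) ≤ 1 := by
    intro v hv e he i
    refine coord_le v bs 1 (fun j i => ?_) e he i
    by_contra h
    exact (Finset.notMem_union.1 hv).2 ((finite_not_integral _).mem_toFinset.2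
      ⟨_, Finset.mem_image.2 ⟨(j, i), Finset.mem_univ _, rfl⟩, h⟩)
  obtain ⟨v₀, hv₀, hL₀⟩ := exists_place_all_degree_one (K := K) L T₀
  obtain ⟨v₁, hv₁, -⟩ := exists_place_degree_one (k := k) (L := k) (insert v₀ T₀)
  obtain ⟨hv₁0, hv₁T⟩ := Finset.mem_insert.not.1 hv₁ |> not_or.1
  have hv₁S : v₁ ∉ Sf := fun h => hv₁T (Finset.mem_union_left _ h)
  set T := insert v₁ T₀ with hT
  have hSfT : Sf ⊆ T := fun v hv => Finset.mem_insert_of_mem (Finset.mem_union_left _ hv)
  have hv₀T : v₀ ∉ T := fun h => (Finset.mem_insert.1 h).elim (fun h => hv₁0 h.symm) hv₀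
  obtain ⟨π, hπ⟩ := v₁.valuation_exists_uniformizer k
  have hπ0 : π ≠ 0 := fun h => by rw [h, map_zero] at hπ; exact WithZero.exp_ne_zero hπ.symm
  set z₀ : K := ((NumberField.RingOfIntegers.basis K j₀ : OK) : K) with hz₀
  let u : 𝔓 → K := fun v => if v = v₁ then 1 + algebraMap k K π * z₀ else 1
  have hu : ∀ v, ∀ W : HeightOneSpectrum OK, W.asIdeal.LiesOver v.asIdeal → W.valuation K (u v) = 1 := by
    intro v W hW
    haveI := hW
    simp only [u]
    split_ifs with h
    · subst h
      refine Valuation.map_one_add_of_lt _ ?_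
      rw [map_mul]
      exact (mul_le_of_le_one_right' (W.valuation_le_one _)).trans_lt
        (valuation_lt_one_of_lt_one v W (by rw [hπ, ← WithZero.exp_zero, WithZero.exp_lt_exp]; omega))
    · exact map_one _
  have hQu : ∀ v ∈ T, v ∉ Sf → v.valuation k (Q (u v)) ≤ 1 ∧ (v = v₁ → Q (u v) ≠ 0) := by
    intro v hv hvS
    simp only [u]
    split_ifs with h
    · subst h
      have h1 : Q (1 + algebraMap k K π * z₀) = π * Q z₀ := by
        show bs.repr (1 + algebraMap k K π * z₀) 1 = π * bs.repr z₀ 1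
        rw [map_add, ← Algebra.smul_def, map_smul, Finsupp.add_apply, Finsupp.smul_apply, smul_eq_mul,
          show bs.repr 1 1 = 0 from hQ1, zero_add]
      rw [h1]
      refine ⟨?_, fun _ => mul_ne_zero hπ0 hj₀⟩
      rw [map_mul]
      refine mul_le_one' ?_ (hgood v hv₁T z₀ (fun W _ => W.valuation_le_one _) 1)
      rw [hπ, ← WithZero.exp_zero, WithZero.exp_le_exp]; omega
    · rw [hQ1]; exact ⟨by simp, fun h' => absurd h' h⟩
  -- precision at each finite place
  have hbv : ∀ v : 𝔓, ∃ (r c : k), c ≠ 0 ∧ (v ∉ Sf → v.valuation k c < 1) ∧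
      (v ∈ Sf → ∀ W : HeightOneSpectrum OK, W.asIdeal.LiesOver v.asIdeal →
        ∀ f : v.adicCompletion k →+* W.adicCompletion K, Continuous f →
          (∀ x : k, f (algebraMap k _ x) = algebraMap K _ (algebraMap k K x)) →
          Valued.v (algebraMap K _ (algebraMap k K r) - f (tf v)) ≤ W.valuation K (algebraMap k K c)) ∧
      ∀ e : K, (∀ W : HeightOneSpectrum OK, W.asIdeal.LiesOver v.asIdeal →
          W.valuation K (e - (if v ∈ Sf then algebraMap k K r - a else u v)) ≤ W.valuation K (algebraMap k K c)) →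
        (v ∈ Sf → algebraMap k (v.adicCompletion k) (-(P e) / Q e) ∈ Uf v) ∧
        (v ∈ T → v ∉ Sf → v.valuation k (Q e) ≤ 1 ∧ (v = v₁ → Q e ≠ 0)) := by
    intro v
    by_cases hvS : v ∈ Sf
    · obtain ⟨V₁, hV₁, V₂, hV₂, hsub⟩ := exists_ratio_nhds (tf v) (Uf v) (hUf v hvS).1 (hUf v hvS).2
      have hV₁' : (fun y => tf v + y) ⁻¹' V₁ ∈ 𝓝 (0 : v.adicCompletion k) :=
        (continuous_const.add continuous_id).continuousAt.preimage_mem_nhds (by simpa using hV₁)
      have hV₂' : (fun y => (-1 : v.adicCompletion k) + y) ⁻¹' V₂ ∈ 𝓝 (0 : v.adicCompletion k) :=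
        (continuous_const.add continuous_id).continuousAt.preimage_mem_nhds (by simpa using hV₂)
      obtain ⟨m₁, hm₁⟩ := exists_ball_subset v hV₁'
      obtain ⟨m₂, hm₂⟩ := exists_ball_subset v hV₂'
      obtain ⟨c, hc, hcb⟩ := exists_coord_bound v bs (min m₁ m₂)
      -- choose `r`
      let O₁ : Set (v.adicCompletion k) := {y | Valued.v (y - tf v) < WithZero.exp (min m₁ m₂)}
      have hO₁ : IsOpen O₁ := (isOpen_lt_exp v _).preimage (continuous_id.sub continuous_const)
      let O₂ : Set (v.adicCompletion k) := ⋂ W ∈ (finite_over (K := K) v).toFinset,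
        {y | ∀ f : v.adicCompletion k →+* W.adicCompletion K, Continuous f →
          (∀ x : k, f (algebraMap k _ x) = algebraMap K _ (algebraMap k K x)) →
          Valued.v (f y - f (tf v)) ≤ W.valuation K (algebraMap k K c)}
      have hO₂ : O₂ ∈ 𝓝 (tf v) := by
        refine (Filter.biInter_finset_mem _).2 fun W hW => ?_
        haveI : W.asIdeal.LiesOver v.asIdeal := (finite_over (K := K) v).mem_toFinset.1 hW
        obtain ⟨f₀, hf₀, hf₀'⟩ := exists_completion_hom v W
        have hcW : W.valuation K (algebraMap k K c) ≠ 0 :=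
          (Valuation.ne_zero_iff _).2 ((map_ne_zero_iff _ (algebraMap k K).injective).2 hc)
        obtain ⟨e', he'⟩ := WithZero.ne_zero_iff_exists.1 hcW
        refine Filter.mem_of_superset
          (((isOpen_lt_exp W (Multiplicative.toAdd e')).preimage (hf₀.sub continuous_const)).mem_nhds
            (show tf v ∈ (fun y => f₀ y - f₀ (tf v)) ⁻¹' _ by simp [WithZero.exp_pos])) fun y hy f hf hf' => ?_
        have hff : (f : v.adicCompletion k → W.adicCompletion K) = f₀ :=
          (HeightOneSpectrum.denseRange_algebraMap (K := k) v).equalizer hf hf₀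
            (funext fun x => (hf' x).trans (hf₀' x).symm)
        simp only [hff]
        rw [← he']
        exact le_of_lt hy
      obtain ⟨y, ⟨r, rfl⟩, hy⟩ := ((HeightOneSpectrum.denseRange_algebraMap (K := k) v).inter_nhds_nonempty
        (Filter.inter_mem (hO₁.mem_nhds (x := tf v) (by simp [O₁, WithZero.exp_pos])) hO₂))
      refine ⟨r, c, hc, fun h => absurd hvS h, fun _ W hW f hf hf' => ?_, fun e he => ⟨fun _ => ?_, fun _ h => absurd hvS h⟩⟩
      · have h1 := Set.mem_iInter₂.1 hy.2 W ((finite_over (K := K) v).mem_toFinset.2 hW) f hf hf'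
        rwa [hf'] at h1
      · simp only [if_pos hvS] at he
        have hco := hcb _ he
        have hp : v.valuation k (P e - r) < WithZero.exp (min m₁ m₂) := by
          have := hco 0
          rwa [map_sub, Finsupp.sub_apply, show bs.repr (algebraMap k K r - a) 0 = r from (hcoord r).1] at this
        have hq : v.valuation k (Q e + 1) < WithZero.exp (min m₁ m₂) := by
          have := hco 1
          rwa [map_sub, Finsupp.sub_apply, show bs.repr (algebraMap k K r - a) 1 = -1 from (hcoord r).2,
            sub_neg_eq_add] at this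
        rw [map_div₀, map_neg]
        refine hsub _ ?_ _ ?_
        · have h1 : algebraMap k (v.adicCompletion k) (P e) - tf v ∈ (fun y => tf v + y) ⁻¹' V₁ := hm₁ (by
            rw [Set.mem_setOf_eq, ← sub_add_sub_cancel _ (algebraMap k (v.adicCompletion k) r)]
            refine ((Valued.v.map_add _ _).trans_lt (max_lt ?_ hy.1)).trans_le (WithZero.exp_le_exp.2 (min_le_left _ _))
            rw [← map_sub, valued_algebraMap]; exact hp)
          simpa using h1
        · have h1 : algebraMap k (v.adicCompletion k) (Q e) + 1 ∈ (fun y => (-1 : v.adicCompletion k) + y) ⁻¹' V₂ :=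
            hm₂ (by
              rw [Set.mem_setOf_eq, ← map_one (algebraMap k (v.adicCompletion k)), ← map_add, valued_algebraMap]
              exact hq.trans_le (WithZero.exp_le_exp.2 (min_le_right _ _)))
          simpa using h1
    · obtain ⟨m, hm, hm'⟩ : ∃ m : ℤ, WithZero.exp m ≤ 1 ∧ (Q (u v) ≠ 0 → WithZero.exp m ≤ v.valuation k (Q (u v))) := by
        by_cases h : Q (u v) = 0
        · exact ⟨0, by rw [WithZero.exp_zero], fun h' => absurd h h'⟩
        · obtain ⟨e', he'⟩ := WithZero.ne_zero_iff_exists.1 ((Valuation.ne_zero_iff (v.valuation k)).2 h)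
          refine ⟨min 0 (Multiplicative.toAdd e'), ?_, fun _ => ?_⟩
          · rw [← WithZero.exp_zero, WithZero.exp_le_exp]; exact min_le_left _ _
          · rw [← he']; exact WithZero.exp_le_exp.2 (min_le_right _ _)
      obtain ⟨c, hc, hcv, hcb⟩ : ∃ c : k, c ≠ 0 ∧ v.valuation k c < 1 ∧ ∀ x : K,
          (∀ W : HeightOneSpectrum OK, W.asIdeal.LiesOver v.asIdeal →
            W.valuation K x ≤ W.valuation K (algebraMap k K c)) →
          ∀ i, v.valuation k (bs.repr x i) < WithZero.exp m := by
        obtain ⟨c, hc, hcb⟩ := exists_coord_bound v bs m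
        rcases lt_or_ge (v.valuation k c) 1 with h | h
        · exact ⟨c, hc, h, hcb⟩
        · obtain ⟨π', hπ'⟩ := v.valuation_exists_uniformizer k
          have hlt : v.valuation k π' < 1 := by
            rw [hπ', ← WithZero.exp_zero, WithZero.exp_lt_exp]; omega
          refine ⟨π', fun h0 => by rw [h0, map_zero] at hπ'; exact WithZero.exp_ne_zero hπ'.symm, hlt, fun x hx =>
            hcb x fun W hW => (hx W hW).trans ?_⟩
          haveI := hW
          rw [← HeightOneSpectrum.valuation_liesOver (K := k) K v W, ← HeightOneSpectrum.valuation_liesOver (K := k) K v W]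
          exact pow_le_pow_left₀ zero_le' (hlt.le.trans h) _
      refine ⟨0, c, hc, fun _ => hcv, fun h => absurd h hvS, fun e he => ⟨fun h => absurd h hvS, fun hvT _ => ?_⟩⟩
      simp only [if_neg hvS] at he
      have hco : v.valuation k (Q e - Q (u v)) < WithZero.exp m := by
        have := hcb _ he 1
        rwa [map_sub, Finsupp.sub_apply] at this
      refine ⟨?_, fun h1 h0 => ?_⟩
      · rw [← sub_add_cancel (Q e) (Q (u v))]
        exact (Valuation.map_add _ _ _).trans (max_le (hco.le.trans hm) (hQu v hvT hvS).1)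
      · have hne := (hQu v hvT hvS).2 h1
        rw [h0, zero_sub, Valuation.map_neg] at hco
        exact not_le.2 hco (hm' hne)
  choose r c hc hcle hclose hbv using hbv
  -- targets at finite places of `K`
  choose und hund using fun W : HeightOneSpectrum OK => exists_under (k := k) W
  have hhom : ∀ W : HeightOneSpectrum OK, ∃ f : (und W).adicCompletion k →+* W.adicCompletion K,
      Continuous f ∧ ∀ x : k, f (algebraMap k _ x) = algebraMap K _ (algebraMap k K x) := fun W => by
    haveI := hund W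
    exact exists_completion_hom (und W) W
  choose f hfc hf using hhom
  let τ : (W : HeightOneSpectrum OK) → W.adicCompletion K := fun W =>
    if und W ∈ Sf then algebraMap K _ b * (f W (tf (und W)) - algebraMap K _ a)
    else algebraMap K _ (b * u (und W))
  let UK : (W : HeightOneSpectrum OK) → Set (W.adicCompletion K) := fun W =>
    {y | Valued.v (y - τ W) < W.valuation K (b * algebraMap k K (c (und W)))}
  let TK : Finset (HeightOneSpectrum OK) := T.biUnion fun v => (finite_over (K := K) v).toFinset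
  have huniq : ∀ (W : HeightOneSpectrum OK) (v : 𝔓), W.asIdeal.LiesOver v.asIdeal → und W = v :=
    fun W v hv => HeightOneSpectrum.ext ((hund W).over.trans hv.over.symm)
  have hTK : ∀ W, W ∈ TK ↔ und W ∈ T := by
    intro W
    simp only [TK, Finset.mem_biUnion, Set.Finite.mem_toFinset, Set.mem_setOf_eq]
    exact ⟨fun ⟨v, hv, hW⟩ => huniq W v hW ▸ hv, fun h => ⟨_, h, hund W⟩⟩
  have hbW : ∀ W, und W ∉ Sf → W.valuation K b = 1 := fun W hW => by
    by_contra h
    obtain ⟨v, hv, hv'⟩ := hSb W h
    exact hW (huniq W v hv' ▸ hv)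
  obtain ⟨W₀, hW₀⟩ : ∃ W : HeightOneSpectrum OK, W.asIdeal.LiesOver v₀.asIdeal := by
    obtain ⟨I, hI, hI'⟩ := Ideal.exists_maximal_ideal_liesOver_of_isIntegral (S := OK) v₀.asIdeal
    exact ⟨⟨I, hI.isPrime, Ideal.ne_bot_of_liesOver_of_ne_bot v₀.ne_bot I⟩, hI'⟩
  have hW₀T : W₀ ∉ TK := fun h => hv₀T (huniq W₀ v₀ hW₀ ▸ (hTK W₀).1 h)
  -- targets at infinite places
  let SiK : Finset (InfinitePlace K) := Finset.univ.filter fun P => P.comap (algebraMap k K) ∈ Si
  have hiw : ∀ w ∈ Si, ∃ (r : k) (δ : ℝ), 0 < δ ∧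
      (∀ P : InfinitePlace K, P.comap (algebraMap k K) = w → ∀ f : w.Completion →+* P.Completion, Continuous f →
        (∀ x : k, f (algebraMap k _ x) = algebraMap K _ (algebraMap k K x)) →
        ‖algebraMap K P.Completion (algebraMap k K r) - f (ti w)‖ < δ / 2) ∧
      ∀ e : K, (∀ P : InfinitePlace K, P.comap (algebraMap k K) = w → P (e - (algebraMap k K r - a)) < δ) →
        algebraMap k w.Completion (-(bs.repr e 0) / bs.repr e 1) ∈ Ui w := by
    intro w hw
    obtain ⟨V₁, hV₁, V₂, hV₂, hsub⟩ := exists_ratio_nhds (ti w) (Ui w) (hUi w hw).1 (hUi w hw).2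
    obtain ⟨η, hη, hball⟩ := Metric.mem_nhds_iff.1 (prod_mem_nhds hV₁ hV₂)
    obtain ⟨δ, hδ, hcb⟩ := exists_coord_bound_infinite hdeg a bs hbs0 hbs1 w (half_pos hη)
    have hdense : DenseRange (algebraMap k w.Completion) := by
      refine (InfinitePlace.Completion.denseRange_coe (v := w)).mono ?_
      rintro _ ⟨x, rfl⟩
      exact ⟨WithAbs.equiv _ x, rfl⟩
    let O : Set w.Completion := Metric.ball (ti w) (η / 2) ∩
      ⋂ P ∈ (Finset.univ.filter fun P : InfinitePlace K => P.comap (algebraMap k K) = w),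
        {y | ∀ f : w.Completion →+* P.Completion, Continuous f →
          (∀ x : k, f (algebraMap k _ x) = algebraMap K _ (algebraMap k K x)) → ‖f y - f (ti w)‖ < δ / 2}
    have hO : O ∈ 𝓝 (ti w) := by
      refine Filter.inter_mem (Metric.ball_mem_nhds _ (half_pos hη))
        ((Filter.biInter_finset_mem _).2 fun P hP => ?_)
      obtain ⟨f₀, hf₀, hf₀'⟩ := exists_completion_hom_infinite w P (Finset.mem_filter.1 hP).2
      refine Filter.mem_of_superset ((isOpen_lt (hf₀.sub continuous_const).norm continuous_const).mem_nhds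
        (show ti w ∈ {y | ‖f₀ y - f₀ (ti w)‖ < δ / 2} by simpa using half_pos hδ)) fun y hy f hf hf' => ?_
      have hff : (f : w.Completion → P.Completion) = f₀ :=
        hdense.equalizer hf hf₀ (funext fun x => (hf' x).trans (hf₀' x).symm)
      simp only [hff]
      exact hy
    obtain ⟨y, ⟨r, rfl⟩, hy⟩ := hdense.inter_nhds_nonempty hO
    refine ⟨r, δ, hδ, fun P hP f hf hf' => ?_, fun e he => ?_⟩
    · have h1 := Set.mem_iInter₂.1 hy.2 P (Finset.mem_filter.2 ⟨Finset.mem_univ _, hP⟩) f hf hf'
      rwa [hf'] at h1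
    · obtain ⟨h1, h2⟩ := hcb _ he
      rw [map_sub, Finsupp.sub_apply, show bs.repr (algebraMap k K r - a) 0 = r from (hcoord r).1] at h1
      rw [map_sub, Finsupp.sub_apply, show bs.repr (algebraMap k K r - a) 1 = -1 from (hcoord r).2] at h2
      rw [map_div₀, map_neg]
      suffices h : (algebraMap k w.Completion (bs.repr e 0), algebraMap k w.Completion (bs.repr e 1)) ∈
          Metric.ball (ti w, (-1 : w.Completion)) η from hsub _ (hball h).1 _ (hball h).2
      rw [Metric.mem_ball, Prod.dist_eq, max_lt_iff]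
      refine ⟨(dist_triangle _ (algebraMap k w.Completion r) _).trans_lt ?_, ?_⟩
      · have h3 : dist (algebraMap k w.Completion (bs.repr e 0)) (algebraMap k w.Completion r) < η / 2 := by
          rw [dist_eq_norm, ← map_sub, InfinitePlace.Completion.algebraMap_apply, InfinitePlace.Completion.norm_coe]
          exact h1
        have h4 : dist (algebraMap k w.Completion r) (ti w) < η / 2 := hy.1
        linarith
      · rw [dist_eq_norm, ← map_one (algebraMap k w.Completion), ← map_neg, ← map_sub,
          InfinitePlace.Completion.algebraMap_apply, InfinitePlace.Completion.norm_coe]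
        exact h2.trans (half_lt_self hη)
  choose! ri δ hδ hri hrU using hiw
  choose fi hfic hfi using fun P : InfinitePlace K => exists_completion_hom_infinite (P.comap (algebraMap k K)) P rfl
  let τi : (P : InfinitePlace K) → P.Completion := fun P =>
    algebraMap K _ b * (fi P (ti (P.comap (algebraMap k K))) - algebraMap K _ a)
  let UiK : (P : InfinitePlace K) → Set P.Completion := fun P =>
    {y | ‖y - τi P‖ < P b * (δ (P.comap (algebraMap k K)) / 2)}
  have hPb : ∀ P : InfinitePlace K, 0 < P b := fun P => InfinitePlace.pos_iff.2 hb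
  -- the approximation
  obtain ⟨z, -, hzf, hzi, hzint, hzd⟩ := exists_near_integral (k := K) (L := L) TK SiK τ τi
    (fun W hW => by
      by_cases h : und W ∈ Sf
      · simp only [τ, if_pos h]
        obtain ⟨x, hxu, hx⟩ := htf _ h
        exact exists_norm_map (k := k) _ _ L (f W) (hf W) b a _ x hxu hx
      · simp only [τ, if_neg h]
        have h1 : W.valuation K (b * u (und W)) = 1 := by rw [map_mul, hbW W h, hu _ W (hund W), one_mul]
        refine ⟨(map_ne_zero_iff _ (algebraMap K _).injective).2 fun h0 => by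
          rw [h0, map_zero] at h1; exact zero_ne_one h1, ?_⟩
        obtain ⟨x, -, hx⟩ := exists_norm_eq_of_valued_one (k := K) (L := L) W
          (fun I hI hIW => hunr W (fun ⟨v, hv, hv'⟩ => h (huniq W v hv' ▸ hv)) I hI hIW)
          (algebraMap K _ (b * u (und W))) (by rw [valued_algebraMap]; exact h1)
        exact ⟨x, hx⟩)
    (fun P hP => by
      obtain ⟨x, hxu, hx⟩ := hti _ (Finset.mem_filter.1 hP).2
      exact exists_norm_map (k := k) _ _ L (fi P) (hfi P) b a _ x hxu hx)
    UK (fun W hW => by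
      have hne : W.valuation K (b * algebraMap k K (c (und W))) ≠ 0 :=
        (Valuation.ne_zero_iff _).2 (mul_ne_zero hb ((map_ne_zero_iff _ (algebraMap k K).injective).2 (hc _)))
      obtain ⟨e', he'⟩ := WithZero.ne_zero_iff_exists.1 hne
      refine ⟨?_, by
        simp only [UK, Set.mem_setOf_eq, sub_self, map_zero]
        exact zero_lt_iff.2 hne⟩
      show IsOpen {y | Valued.v (y - τ W) < W.valuation K (b * algebraMap k K (c (und W)))}
      rw [← he']
      exact (isOpen_lt_exp W (Multiplicative.toAdd e')).preimage (continuous_id.sub continuous_const))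
    UiK (fun P hP => ⟨isOpen_lt (continuous_id.sub continuous_const).norm continuous_const, by
      simp only [UiK, Set.mem_setOf_eq, sub_self, norm_zero]
      exact mul_pos (hPb P) (half_pos (hδ _ (Finset.mem_filter.1 hP).2))⟩)
    W₀ hW₀T (hL₀ W₀ hW₀)
  set e := z / b with he
  have hzb : z = b * e := by rw [he, mul_div_cancel₀ _ hb]
  have hnear : ∀ v ∈ T, ∀ W : HeightOneSpectrum OK, W.asIdeal.LiesOver v.asIdeal →
      W.valuation K (e - (if v ∈ Sf then algebraMap k K (r v) - a else u v)) ≤ W.valuation K (algebraMap k K (c v)) := by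
    intro v hv W hW
    have hW' := huniq W v hW
    subst hW'
    have hzW : Valued.v (algebraMap K (W.adicCompletion K) z - τ W) <
        W.valuation K (b * algebraMap k K (c (und W))) := hzf W ((hTK W).2 hv)
    have hb0 : (0 : WithZero (Multiplicative ℤ)) < W.valuation K b := zero_lt_iff.2 ((Valuation.ne_zero_iff _).2 hb)
    by_cases hvS : und W ∈ Sf
    · simp only [τ, if_pos hvS] at hzW
      rw [if_pos hvS]
      rw [hzb, map_mul, ← mul_sub, map_mul, valued_algebraMap, map_mul] at hzW
      rw [← valued_algebraMap (k := K) W, RingHom.map_sub, RingHom.map_sub,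
        show algebraMap K (W.adicCompletion K) e - (algebraMap K _ (algebraMap k K (r (und W))) - algebraMap K _ a) =
          (algebraMap K _ e - (f W (tf (und W)) - algebraMap K _ a)) -
            (algebraMap K _ (algebraMap k K (r (und W))) - f W (tf (und W))) by ring]
      exact (Valuation.map_sub _ _ _).trans
        (max_le (le_of_lt (lt_of_mul_lt_mul_left hzW hb0.le)) (hclose _ hvS W (hund W) (f W) (hfc W) (hf W)))
    · simp only [τ, if_neg hvS] at hzW
      rw [if_neg hvS]
      rw [hzb, ← map_sub, valued_algebraMap, ← mul_sub, map_mul, map_mul, hbW W hvS, one_mul, one_mul] at hzW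
      exact hzW.le
  have hQe : Q e ≠ 0 :=
    ((hbv v₁ e (hnear v₁ (Finset.mem_insert_self _ _))).2 (Finset.mem_insert_self _ _) hv₁S).2 rfl
  have ht : algebraMap k K (-(P e) / Q e) - a = -(e / algebraMap k K (Q e)) := by
    have hQe' : algebraMap k K (Q e) ≠ 0 := (map_ne_zero_iff _ (algebraMap k K).injective).2 hQe
    rw [map_div₀, map_neg]
    have h := hdec e
    field_simp
    linear_combination h
  refine ⟨-(P e) / Q e, fun v hv => (hbv v e (hnear v (hSfT hv))).1 hv, fun w hw => ?_, fun W hlt => ?_⟩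
  · refine hrU w hw e fun P hP => ?_
    subst hP
    have hPS : P ∈ SiK := Finset.mem_filter.2 ⟨Finset.mem_univ _, hw⟩
    have h1 : ‖algebraMap K P.Completion z - τi P‖ < P b * (δ (P.comap (algebraMap k K)) / 2) := hzi P hPS
    simp only [τi] at h1
    rw [hzb, map_mul, ← mul_sub, norm_mul, InfinitePlace.Completion.algebraMap_apply P b,
      InfinitePlace.Completion.norm_coe] at h1
    have h2 := lt_of_mul_lt_mul_left h1 (hPb P).le
    have h3 := hri _ hw P rfl (fi P) (hfic P) (hfi P)
    have h4 : ‖algebraMap K P.Completion (e - (algebraMap k K (ri (P.comap (algebraMap k K))) - a))‖ =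
        P (e - (algebraMap k K (ri (P.comap (algebraMap k K))) - a)) := by
      rw [InfinitePlace.Completion.algebraMap_apply, InfinitePlace.Completion.norm_coe]
      rfl
    rw [← h4, map_sub, map_sub,
      show algebraMap K P.Completion e - (algebraMap K _ (algebraMap k K (ri (P.comap (algebraMap k K)))) - algebraMap K _ a) =
        (algebraMap K _ e - (fi P (ti (P.comap (algebraMap k K))) - algebraMap K _ a)) -
          (algebraMap K _ (algebraMap k K (ri (P.comap (algebraMap k K)))) - fi P (ti (P.comap (algebraMap k K)))) by ring]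
    refine (norm_sub_le _ _).trans_lt ?_
    linarith
  · by_cases hWS : und W ∈ Sf
    · exact Or.inl ⟨_, hWS, hund W⟩
    refine Or.inr ?_
    haveI := hund W
    have hQW : algebraMap k K (Q e) ≠ 0 := (map_ne_zero_iff _ (algebraMap k K).injective).2 hQe
    rw [ht, Valuation.map_neg, map_div₀, div_lt_one₀ (zero_lt_iff.2 ((Valuation.ne_zero_iff _).2 hQW))] at hlt
    have he1 : W.valuation K e = W.valuation K z := by rw [he, map_div₀, hbW W hWS, div_one]
    by_cases hWT : und W ∈ T
    · exfalso
      have h1 := hnear _ hWT W (hund W)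
      have h2 := hbv _ e (hnear _ hWT)
      have hQ := valuation_le_one_of_le_one (und W) W (h2.2 hWT hWS).1
      have hzW : Valued.v (algebraMap K (W.adicCompletion K) z - τ W) <
          W.valuation K (b * algebraMap k K (c (und W))) := hzf W ((hTK W).2 hWT)
      rw [if_neg hWS] at h1
      -- `e` is a unit at `W`
      have hc1 : W.valuation K e = 1 := by
        have hu1 := hu _ W (hund W)
        have h3 : W.valuation K (e - u (und W)) < 1 := by
          simp only [τ, if_neg hWS] at hzW
          rw [hzb, ← map_sub, valued_algebraMap, ← mul_sub, map_mul, map_mul, hbW W hWS, one_mul, one_mul] at hzW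
          exact hzW.trans (valuation_lt_one_of_lt_one (und W) W (hcle _ hWS))
        rw [← hu1]
        exact Valuation.map_eq_of_sub_lt _ (by rwa [hu1])
      rw [hc1] at hlt
      exact not_le.2 hlt hQ
    by_cases hW0 : und W = v₀
    · exact hL₀ W (hW0 ▸ hund W)
    refine (hzd W (fun h => hWT ((hTK W).1 h))).resolve_left fun h => ?_
    rw [he1, h] at hlt
    refine not_le.2 hlt (valuation_le_one_of_le_one (und W) W ?_)
    refine hgood _ (fun h => hWT (Finset.mem_insert_of_mem h)) e (fun W' hW' => ?_) 1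
    have hu' := huniq W' _ hW'
    rw [he, map_div₀, hbW W' (hu' ▸ hWS), div_one]
    refine hzint W' (fun h => hWT (hu' ▸ (hTK W').1 h)) fun h => hW0 ?_
    rw [← hu', h, huniq W₀ v₀ hW₀]

end Groth.Agent.NFApprox
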