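import Groth.Agent.NFApprox.Hensel
import Mathlib.NumberTheory.NumberField.Completion.FinitePlace
import Mathlib.NumberTheory.NumberField.InfiniteAdeleRing
import Mathlib.NumberTheory.NumberField.CanonicalEmbedding.ConvexBody
import Mathlib.NumberTheory.NumberField.ClassNumber
import Mathlib.RingTheory.Ideal.Norm.AbsNorm

/-!
# Strong approximation away from one finite place of a number field
-/

universe u

open IsDedekindDomain NumberField NumberField.mixedEmbedding Filter Topology
open scoped nonZeroDivisors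

namespace Groth.Agent.NFApprox

variable {k : Type u} [Field k] [NumberField k]

local notation "𝔓" => HeightOneSpectrum (NumberField.RingOfIntegers k)

theorem finite_places_mem {D : NumberField.RingOfIntegers k} (hD : D ≠ 0) :
    {v : 𝔓 | D ∈ v.asIdeal}.Finite := by
  refine (Ideal.finite_factors (I := Ideal.span {D}) (by simpa using hD)).subset fun v hv => ?_
  rw [Set.mem_setOf_eq, Ideal.dvd_iff_le, Ideal.span_singleton_le_iff_mem]
  exact hv

theorem valued_algebraMap (v : 𝔓) (x : k) :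
    Valued.v (algebraMap k (v.adicCompletion k) x) = v.valuation k x :=
  v.valuedAdicCompletion_eq_valuation' (K := k) x

theorem isOpen_lt_exp (v : 𝔓) (m : ℤ) :
    IsOpen {y : v.adicCompletion k | Valued.v y < WithZero.exp m} := by
  obtain ⟨p, hp⟩ := HeightOneSpectrum.valuedAdicCompletion_surjective k v (WithZero.exp m)
  convert Valued.isOpen_ball (v.adicCompletion k) (Valued.v.restrict p) using 1
  ext y
  simp only [Set.mem_setOf_eq, Valuation.restrict_lt_iff, hp]

/-- A small nonzero element with poles at one place only. -/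
theorem exists_small (v₀ : 𝔓) {δ : ℝ} (hδ : 0 < δ) :
    ∃ z : k, z ≠ 0 ∧ (∀ v : 𝔓, v ≠ v₀ → v.valuation k z ≤ 1) ∧ ∀ w : InfinitePlace k, w z < δ := by
  classical
  let O := NumberField.RingOfIntegers k
  have hI0 : v₀.asIdeal ∈ (Ideal O)⁰ := mem_nonZeroDivisors_of_ne_zero v₀.ne_bot
  set h := Fintype.card (ClassGroup O) with hh
  have hh0 : h ≠ 0 := Fintype.card_ne_zero
  have hp : (v₀.asIdeal ^ h).IsPrincipal := by
    rw [← ClassGroup.mk0_eq_one_iff (pow_mem hI0 h)]
    rw [show (⟨v₀.asIdeal ^ h, pow_mem hI0 h⟩ : (Ideal O)⁰) = ⟨v₀.asIdeal, hI0⟩ ^ h from rfl, map_pow,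
      pow_card_eq_one]
  obtain ⟨π, hπ⟩ := hp.principal
  rw [← Ideal.span] at hπ
  have hπ0 : π ≠ 0 := by
    rintro rfl
    rw [Ideal.span_singleton_eq_bot.2 rfl] at hπ
    exact v₀.ne_bot (eq_zero_of_pow_eq_zero (hπ.trans Ideal.zero_eq_bot.symm))
  have hπk : algebraMap O k π ≠ 0 := (map_ne_zero_iff _ (IsFractionRing.injective O k)).2 hπ0
  have hval : ∀ v : 𝔓, v ≠ v₀ → v.valuation k (algebraMap O k π) = 1 := by
    intro v hv
    rw [HeightOneSpectrum.valuation_eq_one_iff_notMem]
    intro hmem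
    refine hv (HeightOneSpectrum.ext (v₀.isMaximal.eq_of_le v.isPrime.ne_top ?_).symm)
    have : v₀.asIdeal ^ h ≤ v.asIdeal := by
      rw [hπ, Ideal.span_singleton_le_iff_mem]; exact hmem
    exact v.isPrime.le_of_pow_le this
  set Nπ : ℝ := |(Algebra.norm ℚ (algebraMap O k π) : ℝ)| with hN
  have hNπ : 1 < Nπ := by
    have h1 : (Algebra.norm ℤ π).natAbs ≠ 1 := by
      rw [← Ideal.absNorm_span_singleton, Ne, Ideal.absNorm_eq_one_iff, ← hπ]
      intro h2
      exact v₀.isPrime.ne_top (top_le_iff.1 (h2 ▸ Ideal.pow_le_self hh0))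
    have h2 : Algebra.norm ℤ π ≠ 0 := by simpa [Algebra.norm_eq_zero_iff] using hπ0
    have h3 : (2 : ℤ) ≤ |Algebra.norm ℤ π| := by rw [Int.abs_eq_natAbs]; omega
    rw [hN, ← Algebra.coe_norm_int]
    have h4 : (2 : ℝ) ≤ ((|Algebra.norm ℤ π| : ℤ) : ℝ) := by exact_mod_cast h3
    push_cast at h4 ⊢
    linarith
  obtain ⟨n, hn⟩ := ((tendsto_pow_atTop_atTop_of_one_lt hNπ).eventually_gt_atTop
    ((minkowskiBound k (↑1)).toReal / ((mixedEmbedding.convexBodyLTFactor k : ℝ) *
      ∏ w : InfinitePlace k, (δ : ℝ) ^ w.mult))).exists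
  let f : InfinitePlace k → NNReal := fun w => (δ * w (algebraMap O k π) ^ n).toNNReal
  have hf : ∀ w : InfinitePlace k, (f w : ℝ) = δ * w (algebraMap O k π) ^ n := fun w =>
    Real.coe_toNNReal _ (mul_nonneg hδ.le (pow_nonneg (apply_nonneg _ _) n))
  have hvol : minkowskiBound k ↑1 < MeasureTheory.volume (mixedEmbedding.convexBodyLT k f) := by
    rw [mixedEmbedding.convexBodyLT_volume, ← ENNReal.coe_mul,
      ← ENNReal.coe_toNNReal (minkowskiBound_lt_top k (↑1)).ne, ENNReal.coe_lt_coe,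
      ← NNReal.coe_lt_coe]
    have hpos : 0 < (mixedEmbedding.convexBodyLTFactor k : ℝ) * ∏ w : InfinitePlace k, (δ : ℝ) ^ w.mult :=
      mul_pos (NNReal.coe_pos.2 (lt_of_lt_of_le zero_lt_one (mixedEmbedding.one_le_convexBodyLTFactor k)))
        (Finset.prod_pos fun w _ => pow_pos hδ _)
    rw [div_lt_iff₀ hpos] at hn
    refine lt_of_lt_of_le hn (le_of_eq ?_)
    have hprod : ∏ w : InfinitePlace k, (w (algebraMap O k π)) ^ w.mult = Nπ := by
      rw [InfinitePlace.prod_eq_abs_norm]; push_cast; rfl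
    rw [NNReal.coe_mul (convexBodyLTFactor k) (∏ w, f w ^ w.mult), NNReal.coe_prod]
    simp only [NNReal.coe_pow, hf, mul_pow, Finset.prod_mul_distrib, ← pow_mul, mul_comm n]
    simp only [pow_mul, Finset.prod_pow, hprod]
    ring
  obtain ⟨a, ha0, ha⟩ := exists_ne_zero_mem_ringOfIntegers_lt k hvol
  refine ⟨algebraMap O k a / algebraMap O k π ^ n, div_ne_zero
    ((map_ne_zero_iff _ (IsFractionRing.injective O k)).2 ha0) (pow_ne_zero _ hπk), fun v hv => ?_,
    fun w => ?_⟩
  · rw [map_div₀, map_pow, hval v hv, one_pow, div_one]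
    exact v.valuation_le_one a
  · rw [map_div₀, map_pow, div_lt_iff₀ (pow_pos (InfinitePlace.pos_iff.2 hπk) n)]
    exact (ha w).trans_eq (hf w)

/-- Simultaneous approximation at finitely many finite places by elements of `k` that are integral at
every other place. -/
theorem exists_approx_finite (T : Finset 𝔓) (af : (v : 𝔓) → v.adicCompletion k) (m : ℤ) :
    ∃ q : k, (∀ v ∈ T, Valued.v (algebraMap k (v.adicCompletion k) q - af v) < WithZero.exp m) ∧
      ∀ v ∉ T, v.valuation k q ≤ 1 := by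
  classical
  let O := NumberField.RingOfIntegers k
  have hdense : ∀ v : 𝔓, ∃ x : k, Valued.v (algebraMap k (v.adicCompletion k) x - af v) < WithZero.exp m := by
    intro v
    have hu : IsOpen {y : v.adicCompletion k | Valued.v (y - af v) < WithZero.exp m} :=
      (isOpen_lt_exp v m).preimage (continuous_id.sub continuous_const)
    obtain ⟨x, hx⟩ := (HeightOneSpectrum.denseRange_algebraMap (K := k) v).exists_mem_open hu
      ⟨af v, by simp [WithZero.exp_pos]⟩
    exact ⟨x, hx⟩
  choose x hx using hdense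
  obtain ⟨⟨b, hb⟩, hbx⟩ := IsLocalization.exist_integer_multiples (O⁰) T x
  have hb0 : b ≠ 0 := nonZeroDivisors.ne_zero hb
  have hbk : algebraMap O k b ≠ 0 := (map_ne_zero_iff _ (IsFractionRing.injective O k)).2 hb0
  have hnum : ∀ v : 𝔓, ∃ a : O, v ∈ T → algebraMap O k a = algebraMap O k b * x v := by
    intro v
    by_cases hv : v ∈ T
    · obtain ⟨a, ha⟩ := hbx v hv
      exact ⟨a, fun _ => by rw [ha]; simp [Algebra.smul_def]⟩
    · exact ⟨0, fun h => absurd h hv⟩
  choose a ha using hnum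
  let T' : Finset 𝔓 := T ∪ (finite_places_mem hb0).toFinset
  -- exponents making the congruences strong enough
  have hexp : ∀ v : 𝔓, ∃ e : ℕ, WithZero.exp (-(e : ℤ)) < WithZero.exp m * v.valuation k (algebraMap O k b) ∧
      WithZero.exp (-(e : ℤ)) ≤ v.valuation k (algebraMap O k b) := by
    intro v
    obtain ⟨c, hc⟩ := WithZero.ne_zero_iff_exists.1 ((Valuation.ne_zero_iff (v.valuation k)).2 hbk)
    refine ⟨(m + Multiplicative.toAdd c).natAbs + (Multiplicative.toAdd c).natAbs + 1, ?_⟩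
    rw [← hc, show ((c : Multiplicative ℤ) : WithZero (Multiplicative ℤ)) =
      WithZero.exp (Multiplicative.toAdd c) from rfl, ← WithZero.exp_add, WithZero.exp_lt_exp,
      WithZero.exp_le_exp]
    constructor <;> omega
  choose e he using hexp
  obtain ⟨y, hy⟩ := IsDedekindDomain.exists_forall_sub_mem_ideal (s := T') (fun v => v.asIdeal) e
    (fun v _ => v.prime) (fun v _ v' _ h h' => h (HeightOneSpectrum.ext h'))
    (fun v => if v.1 ∈ T then a v.1 else 0)
  refine ⟨algebraMap O k y / algebraMap O k b, fun v hv => ?_, fun v hv => ?_⟩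
  · have hy' := hy v (Finset.mem_union_left _ hv)
    rw [if_pos hv, ← HeightOneSpectrum.intValuation_le_pow_iff_mem,
      ← HeightOneSpectrum.valuation_of_algebraMap (K := k)] at hy'
    rw [show algebraMap k (v.adicCompletion k) (algebraMap O k y / algebraMap O k b) - af v =
      algebraMap k (v.adicCompletion k) (algebraMap O k (y - a v) / algebraMap O k b) +
        (algebraMap k (v.adicCompletion k) (x v) - af v) by
      rw [map_sub, sub_div, ha v hv, mul_div_cancel_left₀ _ hbk, map_sub]; ring]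
    refine (Valued.v.map_add _ _).trans_lt (max_lt ?_ (hx v))
    rw [valued_algebraMap, map_div₀, div_lt_iff₀ (zero_lt_iff.2 ((Valuation.ne_zero_iff _).2 hbk))]
    exact hy'.trans_lt (he v).1
  · rw [map_div₀, div_le_one₀ (zero_lt_iff.2 ((Valuation.ne_zero_iff _).2 hbk))]
    by_cases hmem : b ∈ v.asIdeal
    · have hy' := hy v (Finset.mem_union_right _ (by simpa using hmem))
      rw [if_neg hv, sub_zero, ← HeightOneSpectrum.intValuation_le_pow_iff_mem,
        ← HeightOneSpectrum.valuation_of_algebraMap (K := k)] at hy'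
      exact hy'.trans (he v).2
    · rw [(v.valuation_eq_one_iff_notMem (K := k)).2 hmem]
      exact v.valuation_le_one y

/-- Strong approximation away from the finite place `v₀`. -/
theorem exists_strong_approx (v₀ : 𝔓) (T : Finset 𝔓) (hT : v₀ ∉ T)
    (af : (v : 𝔓) → v.adicCompletion k) (m : ℤ) (ai : (w : InfinitePlace k) → w.Completion)
    {δ : ℝ} (hδ : 0 < δ) :
    ∃ c : k, (∀ v ∈ T, Valued.v (algebraMap k (v.adicCompletion k) c - af v) < WithZero.exp m) ∧
      (∀ w, ‖algebraMap k w.Completion c - ai w‖ < δ) ∧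
      ∀ v ∉ T, v ≠ v₀ → v.valuation k c ≤ 1 := by
  classical
  let O := NumberField.RingOfIntegers k
  obtain ⟨q, hq, hqint⟩ := exists_approx_finite T af m
  -- a multiplier killing everything at the places of T
  obtain ⟨M, hM, hMint⟩ : ∃ M : O, M ≠ 0 ∧
      ∀ v ∈ T, v.valuation k (algebraMap O k M) < WithZero.exp m := by
    let J : Ideal O := ∏ v ∈ T, v.asIdeal ^ (m.natAbs + 1)
    have hJ : J ≠ ⊥ := Finset.prod_ne_zero_iff.2 fun v _ => pow_ne_zero _ v.ne_bot
    obtain ⟨M, hMJ, hM⟩ := Submodule.exists_mem_ne_zero_of_ne_bot hJ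
    refine ⟨M, hM, fun v hv => ?_⟩
    have : M ∈ v.asIdeal ^ (m.natAbs + 1) :=
      Ideal.le_of_dvd (Finset.dvd_prod_of_mem (fun v : 𝔓 => v.asIdeal ^ (m.natAbs + 1)) hv) hMJ
    rw [← HeightOneSpectrum.intValuation_le_pow_iff_mem,
      ← HeightOneSpectrum.valuation_of_algebraMap (K := k)] at this
    refine this.trans_lt ?_
    rw [WithZero.exp_lt_exp]
    omega
  let bs := NumberField.integralBasis k
  set C : ℝ := 1 + ∑ w : InfinitePlace k, ∑ i, w (algebraMap O k M) * w (bs i) with hC
  have hC0 : 0 < C := by positivity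
  obtain ⟨z, hz0, hzint, hz⟩ := exists_small v₀ (show (0 : ℝ) < δ / 2 / C by positivity)
  have hMk : algebraMap O k M ≠ 0 := (map_ne_zero_iff _ (IsFractionRing.injective O k)).2 hM
  -- a global element near the infinite targets
  obtain ⟨y, hy⟩ : ∃ y : k, ∀ w : InfinitePlace k, ‖algebraMap k w.Completion y - ai w‖ < δ / 2 := by
    have ho : IsOpen (⋂ w : InfinitePlace k,
        {p : NumberField.InfiniteAdeleRing k | ‖p w - ai w‖ < δ / 2}) :=
      isOpen_iInter_of_finite fun w => isOpen_lt (continuous_norm.comp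
        ((continuous_apply w).sub continuous_const)) continuous_const
    obtain ⟨y, hy⟩ := (NumberField.InfiniteAdeleRing.denseRange_algebraMap k).exists_mem_open ho
      ⟨ai, Set.mem_iInter.2 fun w => by simp; positivity⟩
    exact ⟨y, fun w => Set.mem_iInter.1 hy w⟩
  have hzM : z * algebraMap O k M ≠ 0 := mul_ne_zero hz0 hMk
  set s := (y - q) / (z * algebraMap O k M) with hs
  let o : O := ∑ i, ⌊bs.repr s i⌋ • NumberField.RingOfIntegers.basis k i
  have ho : s - algebraMap O k o = ∑ i, ((bs.repr s i - (⌊bs.repr s i⌋ : ℚ)) : ℚ) • bs i := by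
    rw [map_sum]
    nth_rewrite 1 [← bs.sum_repr s]
    rw [← Finset.sum_sub_distrib]
    refine Finset.sum_congr rfl fun i _ => ?_
    rw [map_zsmul, sub_smul, Int.cast_smul_eq_zsmul, NumberField.integralBasis_apply]
  refine ⟨q + z * algebraMap O k M * algebraMap O k o, fun v hv => ?_, fun w => ?_, fun v hv hv₀ => ?_⟩
  · have hv₀ : v ≠ v₀ := fun h => hT (h ▸ hv)
    rw [map_add, add_sub_right_comm]
    refine (Valued.v.map_add _ _).trans_lt (max_lt (hq v hv) ?_)
    rw [valued_algebraMap, map_mul, map_mul]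
    refine lt_of_le_of_lt ?_ (hMint v hv)
    calc v.valuation k z * v.valuation k (algebraMap O k M) * v.valuation k (algebraMap O k o)
        ≤ 1 * v.valuation k (algebraMap O k M) * 1 :=
          mul_le_mul' (mul_le_mul' (hzint v hv₀) le_rfl) (v.valuation_le_one o)
      _ = _ := by rw [one_mul, mul_one]
  · have e : q + z * algebraMap O k M * algebraMap O k o =
        y - z * algebraMap O k M * (s - algebraMap O k o) := by
      rw [hs, mul_sub, mul_div_cancel₀ _ hzM]; ring
    rw [e, map_sub, sub_right_comm]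
    refine (norm_sub_le _ _).trans_lt ?_
    have h2 : ‖algebraMap k w.Completion (z * algebraMap O k M * (s - algebraMap O k o))‖ ≤ δ / 2 := by
      rw [InfinitePlace.Completion.algebraMap_apply, InfinitePlace.Completion.norm_coe]
      show w (z * algebraMap O k M * (s - algebraMap O k o)) ≤ δ / 2
      rw [map_mul, map_mul, ho]
      have h3 : w (∑ i, ((bs.repr s i - (⌊bs.repr s i⌋ : ℚ)) : ℚ) • bs i) ≤ ∑ i, w (bs i) := by
        refine le_trans (w.1.sum_le _ _) (Finset.sum_le_sum fun i _ => ?_)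
        show w (((bs.repr s i - (⌊bs.repr s i⌋ : ℚ)) : ℚ) • bs i) ≤ w (bs i)
        rw [Rat.smul_def, map_mul]
        refine mul_le_of_le_one_left (apply_nonneg _ _) ?_
        obtain ⟨φ, hφ⟩ : ∃ φ : k →+* ℂ, ∀ x : k, w x = ‖φ x‖ :=
          ⟨w.embedding, fun x => (InfinitePlace.norm_embedding_eq w x).symm⟩
        rw [hφ, map_ratCast, Complex.norm_ratCast, abs_le]
        have h5 := Int.floor_le (bs.repr s i)
        have h6 := Int.lt_floor_add_one (bs.repr s i)
        have h5' : ((⌊bs.repr s i⌋ : ℚ) : ℝ) ≤ (bs.repr s i : ℝ) := Rat.cast_le.2 h5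
        have h6' : ((bs.repr s i : ℚ) : ℝ) < (((⌊bs.repr s i⌋ : ℚ) + 1 : ℚ) : ℝ) := Rat.cast_lt.2 h6
        push_cast at h5' h6' ⊢
        constructor <;> linarith
      have h4 : w (algebraMap O k M) * ∑ i, w (bs i) ≤ C := by
        rw [hC, Finset.mul_sum]
        have := Finset.single_le_sum (f := fun w : InfinitePlace k => ∑ i, w (algebraMap O k M) * w (bs i))
          (fun w' _ => Finset.sum_nonneg fun i _ => by positivity) (Finset.mem_univ w)
        linarith
      calc w z * w (algebraMap O k M) * w (∑ i, ((bs.repr s i - (⌊bs.repr s i⌋ : ℚ)) : ℚ) • bs i)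
          ≤ w z * w (algebraMap O k M) * ∑ i, w (bs i) :=
            mul_le_mul_of_nonneg_left h3 (by positivity)
        _ ≤ w z * C := by rw [mul_assoc]; exact mul_le_mul_of_nonneg_left h4 (apply_nonneg _ _)
        _ ≤ δ / 2 / C * C := mul_le_mul_of_nonneg_right (hz w).le hC0.le
        _ = δ / 2 := div_mul_cancel₀ _ hC0.ne'
    linarith [hy w]
  · refine ((v.valuation k).map_add _ _).trans (max_le (hqint v hv) ?_)
    rw [map_mul, map_mul]
    exact mul_le_one' (mul_le_one' (hzint v hv₀) (v.valuation_le_one M)) (v.valuation_le_one o)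

/-- The same with neighbourhoods. -/
theorem exists_strong_approx_nhds (v₀ : 𝔓) (T : Finset 𝔓) (hT : v₀ ∉ T)
    (af : (v : 𝔓) → v.adicCompletion k) (Uf : (v : 𝔓) → Set (v.adicCompletion k))
    (hUf : ∀ v ∈ T, Uf v ∈ 𝓝 (af v)) (ai : (w : InfinitePlace k) → w.Completion)
    (Ui : (w : InfinitePlace k) → Set w.Completion) (hUi : ∀ w, Ui w ∈ 𝓝 (ai w)) :
    ∃ c : k, (∀ v ∈ T, algebraMap k (v.adicCompletion k) c ∈ Uf v) ∧
      (∀ w, algebraMap k w.Completion c ∈ Ui w) ∧
      ∀ v ∉ T, v ≠ v₀ → v.valuation k c ≤ 1 := by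
  classical
  have hball : ∀ v : 𝔓, ∃ m : ℤ, v ∈ T → {x | Valued.v (x - af v) < WithZero.exp m} ⊆ Uf v := by
    intro v
    by_cases hv : v ∈ T
    · have h0 : (fun x => x + af v) ⁻¹' Uf v ∈ 𝓝 (0 : v.adicCompletion k) :=
        (continuous_add_const (af v)).continuousAt.preimage_mem_nhds (by rw [zero_add]; exact hUf v hv)
      obtain ⟨m, hm⟩ := exists_ball_subset v h0
      exact ⟨m, fun _ x hx => by simpa using hm hx⟩
    · exact ⟨0, fun h => absurd h hv⟩
  choose mv hmv using hball
  choose δv hδv0 hδv using fun w : InfinitePlace k => Metric.mem_nhds_iff.1 (hUi w)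
  obtain ⟨δ, hδ0, hδ⟩ : ∃ δ > 0, ∀ w, δ ≤ δv w :=
    ⟨(Finset.univ.image δv).min' (Finset.univ_nonempty.image _),
      (Finset.lt_min'_iff _ _).2 (by simp [hδv0]),
      fun w => Finset.min'_le _ _ (Finset.mem_image_of_mem _ (Finset.mem_univ w))⟩
  let m := -((T.sup fun v => (mv v).natAbs : ℕ) : ℤ)
  obtain ⟨c, hc1, hc2, hc3⟩ := exists_strong_approx v₀ T hT af m ai hδ0
  refine ⟨c, fun v hv => hmv v hv ((hc1 v hv).trans_le (WithZero.exp_le_exp.2 ?_)), fun w => ?_, hc3⟩
  · have := Finset.le_sup (f := fun v => (mv v).natAbs) hv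
    omega
  · refine hδv w ?_
    rw [Metric.mem_ball, dist_eq_norm]
    exact (hc2 w).trans_le (hδ w)

end Groth.Agent.NFApprox
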