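import Groth.Agent.NFApprox.Strong
import Mathlib.RingTheory.Norm.Basic
import Mathlib.RingTheory.Trace.Basic
import Mathlib.RingTheory.TensorProduct.Free
import Mathlib.FieldTheory.Finite.GaloisField
import Mathlib.LinearAlgebra.Matrix.Charpoly.Coeff
import Mathlib.NumberTheory.RamificationInertia.Basic
import Mathlib.NumberTheory.RamificationInertia.Valuation
import Groth.Agent.NFApprox.Hensel

/-!
# Units are norms from unramified extensions
-/

universe u

open IsDedekindDomain NumberField UniqueFactorizationMonoid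
open scoped TensorProduct

namespace Groth.Agent.NFApprox

/-- The norm on a product of two algebras. -/
theorem norm_prod_apply {R S T : Type*} [CommRing R] [CommRing S] [CommRing T] [Algebra R S] [Algebra R T]
    [Module.Free R S] [Module.Free R T] [Module.Finite R S] [Module.Finite R T] (x : S × T) :
    Algebra.norm R x = Algebra.norm R x.1 * Algebra.norm R x.2 := by
  rw [Algebra.norm_apply, Algebra.norm_apply, Algebra.norm_apply, ← LinearMap.det_prodMap]
  congr 1

/-- An element with unit norm is a unit. -/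
theorem isUnit_of_isUnit_norm {R S : Type*} [CommRing R] [CommRing S] [Algebra R S]
    [Module.Free R S] [Module.Finite R S] {x : S} (h : IsUnit (Algebra.norm R x)) : IsUnit x := by
  rw [Algebra.norm_apply, ← LinearMap.isUnit_iff_isUnit_det, Module.End.isUnit_iff] at h
  obtain ⟨y, hy⟩ := h.2 1
  exact IsUnit.of_mul_eq_one y hy

/-- Multiplication matrices after extension of scalars. -/
theorem leftMulMatrix_one_tmul {k L : Type*} [Field k] [CommRing L] [Algebra k L]
    (R : Type*) [CommRing R] [Algebra k R] {ι : Type*} [Fintype ι] [DecidableEq ι]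
    (bs : Module.Basis ι k L) (z : L) :
    Algebra.leftMulMatrix (Algebra.TensorProduct.basis R bs) ((1 : R) ⊗ₜ[k] z) =
      (Algebra.leftMulMatrix bs z).map (algebraMap k R) := by
  ext i l
  rw [Algebra.leftMulMatrix_eq_repr_mul, Matrix.map_apply, Algebra.leftMulMatrix_eq_repr_mul,
    Algebra.TensorProduct.basis_apply, Algebra.TensorProduct.tmul_mul_tmul, one_mul,
    Algebra.TensorProduct.basis_repr_tmul, Finsupp.smul_apply, Finsupp.mapRange_apply, one_smul]

variable {k : Type u} [Field k] [NumberField k]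

local notation "𝔓" => HeightOneSpectrum (NumberField.RingOfIntegers k)
local notation "O" => NumberField.RingOfIntegers k

/-- Determinants of congruent integral matrices are congruent. -/
theorem det_congr_valuation {F : Type*} [CommRing F] {Γ : Type*} [LinearOrderedCommGroupWithZero Γ]
    (w : Valuation F Γ) {ι : Type*} [Fintype ι] [DecidableEq ι] {M N : Matrix ι ι F}
    (hM : ∀ i j, w (M i j) ≤ 1) (hN : ∀ i j, w (N i j) ≤ 1) (h : ∀ i j, w (M i j - N i j) < 1) :
    w M.det ≤ 1 ∧ w (M.det - N.det) < 1 := by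
  classical
  let A := w.integer
  let M' : Matrix ι ι A := fun i j => ⟨M i j, hM i j⟩
  let N' : Matrix ι ι A := fun i j => ⟨N i j, hN i j⟩
  let J : Ideal A :=
    { carrier := {a | w (a : F) < 1}
      add_mem' := fun {a b} ha hb => (w.map_add _ _).trans_lt (max_lt ha hb)
      zero_mem' := by show w (0 : F) < 1; rw [map_zero]; exact zero_lt_one
      smul_mem' := fun c a ha => by
        show w ((c : F) * a) < 1
        rw [map_mul]
        exact (mul_le_of_le_one_left' c.2).trans_lt ha }
  have hMN : M'.map (Ideal.Quotient.mk J) = N'.map (Ideal.Quotient.mk J) := by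
    ext i j
    exact Ideal.Quotient.eq.2 (h i j)
  have hd := congrArg Matrix.det hMN
  rw [show M'.map (Ideal.Quotient.mk J) = (Ideal.Quotient.mk J).mapMatrix M' from rfl,
    show N'.map (Ideal.Quotient.mk J) = (Ideal.Quotient.mk J).mapMatrix N' from rfl,
    ← RingHom.map_det, ← RingHom.map_det, Ideal.Quotient.eq] at hd
  have hcast : ∀ Q : Matrix ι ι A, ((Q.det : A) : F) = (Q.map A.subtype).det := fun Q => A.subtype.map_det Q
  refine ⟨?_, ?_⟩
  · rw [show M = M'.map A.subtype from rfl, ← hcast]; exact M'.det.2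
  · rw [show M = M'.map A.subtype from rfl, show N = N'.map A.subtype from rfl, ← hcast, ← hcast]
    exact hd

variable {L : Type u} [Field L] [NumberField L] [Algebra k L]

/-- Elements of positive valuation at `v` have positive valuation above `v`. -/
theorem valuation_lt_one_of_lt_one (v : 𝔓) (W : HeightOneSpectrum (NumberField.RingOfIntegers L))
    [W.asIdeal.LiesOver v.asIdeal] {x : k} (hx : v.valuation k x < 1) :
    W.valuation L (algebraMap k L x) < 1 := by
  rw [← HeightOneSpectrum.valuation_liesOver (K := k) L v W]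
  refine pow_lt_one₀ zero_le' hx ?_
  exact Ideal.IsDedekindDomain.ramificationIdx'_ne_zero_of_liesOver W.asIdeal v.ne_bot

theorem valuation_le_one_of_le_one (v : 𝔓) (W : HeightOneSpectrum (NumberField.RingOfIntegers L))
    [W.asIdeal.LiesOver v.asIdeal] {x : k} (hx : v.valuation k x ≤ 1) :
    W.valuation L (algebraMap k L x) ≤ 1 := by
  rw [← HeightOneSpectrum.valuation_liesOver (K := k) L v W]
  exact pow_le_one' hx _

/-- A basis adapted to an unramified place: residues of multiplication matrices control the norm. -/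
theorem exists_unramified_data (v : 𝔓)
    (hunr : ∀ Q : Ideal (NumberField.RingOfIntegers L), Q.IsPrime → Q.LiesOver v.asIdeal →
      Q.ramificationIdx O = 1) :
    ∃ (n : ℕ) (β : Module.Basis (Fin n) k L),
      (∀ r : O, r ∉ v.asIdeal → ∃ z : L, (∀ i j, v.valuation k (Algebra.leftMulMatrix β z i j) ≤ 1) ∧
        v.valuation k ((Algebra.leftMulMatrix β z).det - algebraMap O k r) < 1) ∧
      ∃ z : L, (∀ i j, v.valuation k (Algebra.leftMulMatrix β z i j) ≤ 1) ∧
        v.valuation k (Algebra.leftMulMatrix β z).trace = 1 := by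
  classical
  let OL := NumberField.RingOfIntegers L
  set p : Ideal O := v.asIdeal with hp
  haveI : p.IsMaximal := v.isMaximal
  set J : Ideal OL := p.map (algebraMap O OL) with hJ
  have hJ0 : J ≠ ⊥ := Ideal.map_ne_bot_of_ne_bot v.ne_bot
  set F := (normalizedFactors J).toFinset with hF
  have hprime : ∀ P ∈ F, Prime P := fun P hP => prime_of_normalized_factor P (Multiset.mem_toFinset.1 hP)
  have hover : ∀ P ∈ F, P.LiesOver p := fun P hP => by
    have hle : J ≤ P := Ideal.le_of_dvd (dvd_of_mem_normalizedFactors (Multiset.mem_toFinset.1 hP))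
    refine ⟨(‹p.IsMaximal›.eq_of_le ?_ (Ideal.map_le_iff_le_comap.1 hle))⟩
    exact ((Ideal.isPrime_of_prime (hprime P hP)).comap (algebraMap O OL)).ne_top
  have hnodup : (normalizedFactors J).Nodup := by
    rw [Multiset.nodup_iff_count_le_one]
    intro P
    by_cases hP : P ∈ normalizedFactors J
    · haveI := hover P (Multiset.mem_toFinset.2 hP)
      rw [← Ideal.IsDedekindDomain.ramificationIdx_eq_normalizedFactors_count p P hJ0,
        hunr P (Ideal.isPrime_of_prime (prime_of_normalized_factor P hP)) inferInstance]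
    · rw [Multiset.count_eq_zero_of_notMem hP]; exact zero_le_one
  have hprod : ∏ P ∈ F, P = J := by
    rw [Finset.prod_eq_multiset_prod, hF, Multiset.toFinset_val, Multiset.dedup_eq_self.2 hnodup,
      Multiset.map_id']
    exact Ideal.prod_normalizedFactors_eq_self hJ0
  -- membership in `J`
  have hmem : ∀ y : OL, (∀ W : HeightOneSpectrum OL, W.asIdeal.LiesOver p →
      W.valuation L (algebraMap OL L y) < 1) → y ∈ J := by
    intro y hy
    rw [← Ideal.span_singleton_le_iff_mem, ← Ideal.dvd_iff_le, ← hprod]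
    refine Finset.prod_primes_dvd _ hprime fun P hP => ?_
    rw [Ideal.dvd_iff_le, Ideal.span_singleton_le_iff_mem]
    have := hy ⟨P, Ideal.isPrime_of_prime (hprime P hP), (hprime P hP).ne_zero⟩ (hover P hP)
    exact (HeightOneSpectrum.valuation_lt_one_iff_mem _ y).1 this
  letI := Ideal.Quotient.field p
  haveI : Module.Finite (O ⧸ p) (OL ⧸ J) := Module.Finite.of_restrictScalars_finite O _ _
  set n := Module.finrank (O ⧸ p) (OL ⧸ J) with hn
  let bb := Module.finBasis (O ⧸ p) (OL ⧸ J)
  choose b hb using fun i => Ideal.Quotient.mk_surjective (bb i)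
  let bL : Fin n → L := fun i => algebraMap OL L (b i)
  have hsmul : ∀ (o : O) (q : OL), Ideal.Quotient.mk J (algebraMap O OL o * q) =
      (Ideal.Quotient.mk p o) • Ideal.Quotient.mk J q := fun o q => by
    rw [map_mul, Algebra.smul_def]; rfl
  -- approximations
  have happrox : ∀ x : k, v.valuation k x ≤ 1 → ∃ o : O, v.valuation k (x - algebraMap O k o) < 1 := by
    intro x hx
    obtain ⟨q, hq, hq'⟩ := exists_approx_finite {v} (fun w => algebraMap k _ x) 0
    obtain ⟨o, ho⟩ := HeightOneSpectrum.mem_integers_of_valuation_le_one k q fun w => by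
      by_cases hw : w = v
      · subst hw
        have h1 := hq w (Finset.mem_singleton_self _)
        rw [← map_sub, valued_algebraMap, WithZero.exp_zero] at h1
        calc w.valuation k q = w.valuation k ((q - x) + x) := by rw [sub_add_cancel]
          _ ≤ max (w.valuation k (q - x)) (w.valuation k x) := Valuation.map_add _ _ _
          _ ≤ 1 := max_le h1.le hx
      · exact hq' w (by simpa using hw)
    refine ⟨o, ?_⟩
    have h1 := hq v (Finset.mem_singleton_self _)
    rw [← map_sub, valued_algebraMap, WithZero.exp_zero] at h1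
    rwa [ho, Valuation.map_sub_swap]
  choose! app happ using happrox
  -- residue of a combination with integral coefficients
  have hres : ∀ (c : Fin n → k) (y : OL), (∀ i, v.valuation k (c i) ≤ 1) →
      (∀ W : HeightOneSpectrum OL, W.asIdeal.LiesOver p →
        W.valuation L (algebraMap OL L y - ∑ i, c i • bL i) < 1) →
      Ideal.Quotient.mk J y = ∑ i, Ideal.Quotient.mk p (app (c i)) • bb i := by
    intro c y hc hy
    have : y - ∑ i, algebraMap O OL (app (c i)) * b i ∈ J := by
      refine hmem _ fun W hW => ?_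
      haveI := hW
      rw [show algebraMap OL L (y - ∑ i, algebraMap O OL (app (c i)) * b i) =
          (algebraMap OL L y - ∑ i, c i • bL i) + ∑ i, (c i - algebraMap O k (app (c i))) • bL i by
        simp only [bL, map_sub, map_sum, map_mul, sub_smul, Finset.sum_sub_distrib, Algebra.smul_def,
          ← IsScalarTower.algebraMap_apply, sub_add_sub_cancel, sub_mul]]
      refine (Valuation.map_add _ _ _).trans_lt (max_lt (hy W hW) (Valuation.map_sum_lt _ one_ne_zero fun i _ => ?_))
      rw [Algebra.smul_def, map_mul]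
      exact (mul_le_of_le_one_right' (W.valuation_le_one _)).trans_lt
        (valuation_lt_one_of_lt_one v W (happ _ (hc i)))
    rw [← Ideal.Quotient.eq.2 this |>.symm, map_sum]
    simp only [hsmul, hb]
  -- integrality of coordinates
  have hkey : ∀ (z : OL) (c : Fin n → k), ∑ i, c i • bL i = algebraMap OL L z → ∀ i, v.valuation k (c i) ≤ 1 := by
    intro z c hz i
    by_contra! hlt
    obtain ⟨m, -, hm⟩ := Finset.exists_max_image Finset.univ (fun i => v.valuation k (c i)) ⟨i, Finset.mem_univ _⟩
    have hcm : 1 < v.valuation k (c m) := hlt.trans_le (hm i (Finset.mem_univ _))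
    have hcm0 : v.valuation k (c m) ≠ 0 := ne_of_gt (zero_lt_one.trans hcm)
    have hc' : ∀ j, v.valuation k (c j / c m) ≤ 1 := fun j => by
      rw [map_div₀, div_le_one₀ (zero_lt_iff.2 hcm0)]; exact hm j (Finset.mem_univ _)
    have h0 := hres (fun j => c j / c m) 0 hc' fun W hW => by
      haveI := hW
      rw [map_zero, zero_sub, Valuation.map_neg, show (∑ j, (c j / c m) • bL j) = (c m)⁻¹ • algebraMap OL L z by
        rw [← hz, Finset.smul_sum]
        exact Finset.sum_congr rfl fun j _ => by rw [smul_smul, div_eq_inv_mul],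
        Algebra.smul_def, map_mul]
      refine (mul_le_of_le_one_right' (W.valuation_le_one _)).trans_lt (valuation_lt_one_of_lt_one v W ?_)
      rw [map_inv₀]
      exact inv_lt_one_of_one_lt₀ hcm
    rw [map_zero] at h0
    have h1 := Fintype.linearIndependent_iff.1 bb.linearIndependent _ h0.symm m
    rw [Ideal.Quotient.eq_zero_iff_mem, ← HeightOneSpectrum.valuation_lt_one_iff_mem (K := k)] at h1
    refine absurd ?_ (lt_irrefl (1 : WithZero (Multiplicative ℤ)))
    calc (1 : WithZero (Multiplicative ℤ)) = v.valuation k (c m / c m) := by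
            rw [div_self ((Valuation.ne_zero_iff _).1 hcm0), map_one]
      _ = v.valuation k ((c m / c m - algebraMap O k (app (c m / c m))) + algebraMap O k (app (c m / c m))) := by
            rw [sub_add_cancel]
      _ < 1 := (Valuation.map_add _ _ _).trans_lt (max_lt (happ _ (hc' m)) h1)
  have hli : LinearIndependent k bL := by
    rw [Fintype.linearIndependent_iff]
    intro c hc i
    by_contra hi
    -- scale a relation up to a non-integral one
    obtain ⟨x, hx⟩ : ∃ x : k, 1 < v.valuation k (x * c i) := by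
      obtain ⟨π, hπ⟩ := v.valuation_exists_uniformizer k
      refine ⟨π⁻¹ / c i, ?_⟩
      rw [div_mul_cancel₀ _ hi, map_inv₀, hπ, ← WithZero.exp_neg, ← WithZero.exp_zero, WithZero.exp_lt_exp]
      omega
    refine not_le.2 hx (hkey 0 (fun j => x * c j) ?_ i)
    rw [map_zero]
    simp_rw [← smul_smul]
    rw [← Finset.smul_sum, hc, smul_zero]
  have hcard : n = Module.finrank k L := Ideal.finrank_quotient_map p k L
  have hne : Nonempty (Fin n) := ⟨⟨0, by rw [hcard]; exact Module.finrank_pos⟩⟩
  let β : Module.Basis (Fin n) k L := basisOfLinearIndependentOfCardEqFinrank hli (by rw [Fintype.card_fin, hcard])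
  have hβ : ∀ i, β i = bL i := fun i => by simp [β]
  -- residue matrices
  have hmat : ∀ z : OL, (∀ i j, v.valuation k (Algebra.leftMulMatrix β (algebraMap OL L z) i j) ≤ 1) ∧
      Algebra.leftMulMatrix bb (Ideal.Quotient.mk J z) =
        (Matrix.of fun i j => app (Algebra.leftMulMatrix β (algebraMap OL L z) i j)).map (Ideal.Quotient.mk p) := by
    intro z
    set M := Algebra.leftMulMatrix β (algebraMap OL L z) with hM
    have hsum : ∀ j, ∑ i, M i j • bL i = algebraMap OL L (z * b j) := fun j => by
      simp only [← hβ, hM, Algebra.leftMulMatrix_eq_repr_mul]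
      rw [β.sum_repr, hβ, map_mul]
    have hint : ∀ i j, v.valuation k (M i j) ≤ 1 := fun i j => hkey _ (fun i => M i j) (hsum j) i
    refine ⟨hint, ?_⟩
    ext i j
    have h2 : bb.repr (Ideal.Quotient.mk J z * bb j) i = Ideal.Quotient.mk p (app (M i j)) := by
      rw [← hb j, ← map_mul, hres (fun i => M i j) (z * b j) (fun i => hint i j) (fun W _ => by
        rw [hsum, sub_self, map_zero]; exact zero_lt_one), bb.repr_sum_self]
    rw [Algebra.leftMulMatrix_eq_repr_mul, h2]
    rfl
  -- split off one factor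
  obtain ⟨P, hP⟩ : F.Nonempty := by
    by_contra h
    rw [Finset.not_nonempty_iff_eq_empty] at h
    rw [h, Finset.prod_empty, Ideal.one_eq_top] at hprod
    have : Subsingleton (OL ⧸ J) := Ideal.Quotient.subsingleton_iff.2 hprod.symm
    haveI := bb.ne_zero
    exact bb.ne_zero (Classical.arbitrary _) (Subsingleton.elim _ _)
  haveI hPp := Ideal.isPrime_of_prime (hprime P hP)
  haveI hPmax : P.IsMaximal := hPp.isMaximal (hprime P hP).ne_zero
  set I := ∏ P' ∈ F.erase P, P' with hI
  have hPI : P * I = J := by rw [hI, Finset.mul_prod_erase F (fun P => P) hP, hprod]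
  have hcop : P ⊔ I = ⊤ := by
    refine hPmax.1.2 _ (lt_of_le_of_ne le_sup_left fun h => ?_)
    obtain ⟨P', hP', hle⟩ := hPp.prod_le.1 (show I ≤ P from le_sup_right.trans h.symm.le)
    haveI := (Ideal.isPrime_of_prime (hprime P' (Finset.mem_of_mem_erase hP'))).isMaximal
      (hprime P' (Finset.mem_of_mem_erase hP')).ne_zero
    exact (Finset.ne_of_mem_erase hP') (Ideal.IsMaximal.eq_of_le ‹_› hPp.ne_top hle)
  let P₁ : Ideal (OL ⧸ J) := P.map (Ideal.Quotient.mk J)
  let I₁ : Ideal (OL ⧸ J) := I.map (Ideal.Quotient.mk J)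
  have hcop₁ : P₁ ⊔ I₁ = ⊤ := by rw [← Ideal.map_sup, hcop, Ideal.map_top]
  have hinf : P₁ ⊓ I₁ = ⊥ := by
    rw [← Ideal.mul_eq_inf_of_coprime hcop₁, ← Ideal.map_mul, hPI, Ideal.map_quotient_self]
  haveI : P₁.IsMaximal := by
    refine Ideal.IsMaximal.map_of_surjective_of_ker_le Ideal.Quotient.mk_surjective ?_
    rw [Ideal.mk_ker, ← hPI]; exact Ideal.mul_le_left
  letI := Ideal.Quotient.field P₁
  let f : (OL ⧸ J) →ₐ[O ⧸ p] ((OL ⧸ J) ⧸ P₁) × ((OL ⧸ J) ⧸ I₁) :=
    (Ideal.Quotient.mkₐ _ P₁).prod (Ideal.Quotient.mkₐ _ I₁)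
  have hf : Function.Bijective f := by
    constructor
    · rw [injective_iff_map_eq_zero]
      intro q hq
      rw [← Ideal.mem_bot, ← hinf]
      exact ⟨Ideal.Quotient.eq_zero_iff_mem.1 (congrArg Prod.fst hq),
        Ideal.Quotient.eq_zero_iff_mem.1 (congrArg Prod.snd hq)⟩
    · rintro ⟨a, c⟩
      obtain ⟨a, rfl⟩ := Ideal.Quotient.mk_surjective a
      obtain ⟨c, rfl⟩ := Ideal.Quotient.mk_surjective c
      obtain ⟨x, hx, y, hy, hxy⟩ := Submodule.mem_sup.1 (show (1 : OL ⧸ J) ∈ P₁ ⊔ I₁ by rw [hcop₁]; trivial)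
      refine ⟨a * y + c * x, Prod.ext (Ideal.Quotient.eq.2 ?_) (Ideal.Quotient.eq.2 ?_)⟩
      · rw [show a * y + c * x - a = (c - a) * x by linear_combination a * hxy]
        exact Ideal.mul_mem_left _ _ hx
      · rw [show a * y + c * x - c = (a - c) * y by linear_combination c * hxy]
        exact Ideal.mul_mem_left _ _ hy
  let e := AlgEquiv.ofBijective f hf
  haveI : Finite (O ⧸ p) := Ideal.finiteQuotientOfFreeOfNeBot p v.ne_bot
  haveI : Module.Finite (O ⧸ p) ((OL ⧸ J) ⧸ P₁) :=
    Module.Finite.of_surjective (Ideal.Quotient.mkₐ (O ⧸ p) P₁).toLinearMap Ideal.Quotient.mk_surjective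
  haveI : Module.Finite (O ⧸ p) ((OL ⧸ J) ⧸ I₁) :=
    Module.Finite.of_surjective (Ideal.Quotient.mkₐ (O ⧸ p) I₁).toLinearMap Ideal.Quotient.mk_surjective
  haveI : Finite ((OL ⧸ J) ⧸ P₁) := Module.finite_of_finite (O ⧸ p)
  refine ⟨n, β, fun r hr => ?_, ?_⟩
  · obtain ⟨g, hg⟩ := FiniteField.norm_surjective (O ⧸ p) ((OL ⧸ J) ⧸ P₁) (Ideal.Quotient.mk p r)
    obtain ⟨q, hq⟩ := e.surjective (g, 1)
    obtain ⟨z, rfl⟩ := Ideal.Quotient.mk_surjective q
    obtain ⟨hint, hmz⟩ := hmat z
    refine ⟨algebraMap OL L z, hint, ?_⟩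
    have hN : Algebra.norm (O ⧸ p) (Ideal.Quotient.mk J z) = Ideal.Quotient.mk p r := by
      rw [← Algebra.norm_eq_of_algEquiv e, hq, norm_prod_apply, hg, map_one, mul_one]
    rw [Algebra.norm_eq_matrix_det bb, hmz,
      show ∀ N : Matrix (Fin n) (Fin n) O, N.map (Ideal.Quotient.mk p) = (Ideal.Quotient.mk p).mapMatrix N from
        fun _ => rfl, ← RingHom.map_det, Ideal.Quotient.eq,
      ← HeightOneSpectrum.valuation_lt_one_iff_mem (K := k)] at hN
    replace hN : v.valuation k (((algebraMap O k).mapMatrix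
        (Matrix.of fun i j => app (Algebra.leftMulMatrix β (algebraMap OL L z) i j))).det -
          algebraMap O k r) < 1 := by
      rwa [← RingHom.map_det, ← map_sub]
    refine lt_of_le_of_lt ?_ (max_lt (det_congr_valuation (v.valuation k) hint
      (fun i j => v.valuation_le_one (app (Algebra.leftMulMatrix β (algebraMap OL L z) i j)))
      (fun i j => happ _ (hint i j))).2 hN)
    refine le_trans (le_of_eq (congrArg _ ?_)) (Valuation.map_add _ _ _)
    exact (sub_add_sub_cancel _ _ _).symm
  · obtain ⟨g, hg⟩ : ∃ g, Algebra.trace (O ⧸ p) ((OL ⧸ J) ⧸ P₁) g ≠ 0 := by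
      by_contra! h
      exact Algebra.trace_ne_zero (O ⧸ p) ((OL ⧸ J) ⧸ P₁) (LinearMap.ext h)
    obtain ⟨q, hq⟩ := e.surjective (g, 0)
    obtain ⟨z, rfl⟩ := Ideal.Quotient.mk_surjective q
    obtain ⟨hint, hmz⟩ := hmat z
    refine ⟨algebraMap OL L z, hint, ?_⟩
    have hT : Algebra.trace (O ⧸ p) (OL ⧸ J) (Ideal.Quotient.mk J z) ≠ 0 := by
      rwa [← Algebra.trace_eq_of_algEquiv e, hq, Algebra.trace_prod_apply, map_zero, add_zero]
    rw [Algebra.trace_eq_matrix_trace bb, hmz,
      show ∀ N : Matrix (Fin n) (Fin n) O, (N.map (Ideal.Quotient.mk p)).trace = Ideal.Quotient.mk p N.trace from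
        fun N => (AddMonoidHom.map_trace (Ideal.Quotient.mk p).toAddMonoidHom N).symm,
      Ne, Ideal.Quotient.eq_zero_iff_mem, ← v.valuation_eq_one_iff_notMem (K := k)] at hT
    rw [← hT]
    refine Valuation.map_eq_of_sub_lt _ ?_
    rw [hT, Matrix.trace, Matrix.trace, map_sum, ← Finset.sum_sub_distrib]
    exact Valuation.map_sum_lt _ one_ne_zero fun i _ => happ _ (hint i i)

/-- Units at an unramified place are norms. -/
theorem exists_norm_eq_of_valued_one (v : 𝔓)
    (hunr : ∀ Q : Ideal (NumberField.RingOfIntegers L), Q.IsPrime → Q.LiesOver v.asIdeal →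
      Q.ramificationIdx O = 1)
    (u : v.adicCompletion k) (hu : Valued.v u = 1) :
    ∃ x : (v.adicCompletion k) ⊗[k] L, IsUnit x ∧ Algebra.norm (v.adicCompletion k) x = u := by
  classical
  obtain ⟨n, β, hnorm, z₁, hz₁, htr⟩ := exists_unramified_data (L := L) v hunr
  let bR := Algebra.TensorProduct.basis (v.adicCompletion k) β
  obtain ⟨q, hq, hq'⟩ := exists_approx_finite {v} (Function.update (fun _ => 0) v u) 0
  have hqv := hq v (Finset.mem_singleton_self _)
  rw [Function.update_self, WithZero.exp_zero] at hqv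
  have hq1 : v.valuation k q = 1 := by
    rw [← valued_algebraMap, ← hu]
    exact Valuation.map_eq_of_sub_lt _ (by rwa [hu])
  obtain ⟨r, rfl⟩ := HeightOneSpectrum.mem_integers_of_valuation_le_one k q fun w => by
    by_cases hw : w = v
    · rw [hw, hq1]
    · exact hq' w (by simpa using hw)
  obtain ⟨z, hz, hzr⟩ := hnorm r ((v.valuation_eq_one_iff_notMem (K := k)).1 hq1)
  set N₀ := algebraMap k (v.adicCompletion k) (Algebra.leftMulMatrix β z).det with hN₀
  have hzN : Valued.v N₀ = 1 := by
    rw [hN₀, valued_algebraMap, ← hq1]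
    exact Valuation.map_eq_of_sub_lt _ (by rwa [hq1])
  have hN0 : N₀ ≠ 0 := fun h => by rw [h, map_zero] at hzN; exact zero_ne_one hzN
  have hu' : Valued.v (1 - u / N₀) < 1 := by
    rw [one_sub_div hN0, map_div₀, hzN, div_one]
    have h3 : N₀ - u = (N₀ - algebraMap k (v.adicCompletion k) (algebraMap O k r)) + (algebraMap k (v.adicCompletion k) (algebraMap O k r) - u) := by
      abel
    rw [h3]
    refine (Valued.v.map_add _ _).trans_lt (max_lt ?_ hqv)
    rw [hN₀, ← map_sub, valued_algebraMap]
    exact hzr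
  set M := (Algebra.leftMulMatrix β z₁).map (algebraMap k (v.adicCompletion k)) with hM
  let g : Polynomial (v.adicCompletion k) :=
    (1 + (Polynomial.X : Polynomial (v.adicCompletion k)) • M.map Polynomial.C).det - Polynomial.C (u / N₀)
  have hgev : ∀ c : (v.adicCompletion k), g.eval c = (1 + c • M).det - u / N₀ := fun c => by
    simp only [g, Polynomial.eval_sub, Polynomial.eval_C]
    rw [← Polynomial.coe_evalRingHom, RingHom.map_det]
    congr 2
    ext i j
    simp only [RingHom.mapMatrix_apply, Matrix.map_apply, Matrix.add_apply, Matrix.smul_apply, smul_eq_mul,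
      Polynomial.coe_evalRingHom, Polynomial.eval_add, Polynomial.eval_mul, Polynomial.eval_X, Polynomial.eval_C]
    by_cases h : i = j <;> simp [Matrix.one_apply, h]
  have hg : ∀ i, Valued.v (g.coeff i) ≤ 1 := by
    intro i
    let A := (Valued.v : Valuation (v.adicCompletion k) _).integer
    let M' : Matrix (Fin n) (Fin n) A := fun i j =>
      ⟨M i j, by
        simp only [A, M, Valuation.mem_integer_iff, Matrix.map_apply]
        exact (valued_algebraMap v _).trans_le (hz₁ i j)⟩
    have hu1 : Valued.v (u / N₀) ≤ 1 := (by rw [map_div₀, hu, hzN, div_one])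
    have : g = ((1 + (Polynomial.X : Polynomial A) • M'.map Polynomial.C).det -
        Polynomial.C (⟨u / N₀, hu1⟩ : A)).map A.subtype := by
      simp only [g, Polynomial.map_sub, Polynomial.map_C]
      rw [← Polynomial.coe_mapRingHom, RingHom.map_det]
      congr 2
      refine Matrix.ext fun i j => ?_
      simp [Matrix.one_apply, apply_ite (Polynomial.map A.subtype), M']
    rw [this, Polynomial.coeff_map]
    exact ((Polynomial.coeff _ i : A)).2
  obtain ⟨c, hc⟩ := exists_root v g hg 0 (by rw [map_zero]; exact zero_le') (by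
      rw [hgev, zero_smul, add_zero, Matrix.det_one]; exact hu') (by
      simp only [g, Polynomial.derivative_sub, Polynomial.derivative_C, sub_zero,
        Matrix.derivative_det_one_add_X_smul, hM]
      show Valued.v ((Algebra.leftMulMatrix β z₁).map (algebraMap k (v.adicCompletion k))).trace = 1
      rw [show ((Algebra.leftMulMatrix β z₁).map (algebraMap k (v.adicCompletion k))).trace =
        algebraMap k (v.adicCompletion k) (Algebra.leftMulMatrix β z₁).trace from
        (AddMonoidHom.map_trace (algebraMap k (v.adicCompletion k)).toAddMonoidHom _).symm, valued_algebraMap]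
      exact htr)
  rw [Polynomial.IsRoot, hgev, sub_eq_zero] at hc
  have hx : Algebra.norm (v.adicCompletion k) (((1 : (v.adicCompletion k)) ⊗ₜ[k] z) * (1 + c • ((1 : (v.adicCompletion k)) ⊗ₜ[k] z₁))) = u := by
    rw [map_mul, Algebra.norm_eq_matrix_det bR, Algebra.norm_eq_matrix_det bR, map_add, map_one, map_smul,
      leftMulMatrix_one_tmul, leftMulMatrix_one_tmul, ← hM, hc,
      show (Algebra.leftMulMatrix β z).map (algebraMap k (v.adicCompletion k)) = (algebraMap k (v.adicCompletion k)).mapMatrix (Algebra.leftMulMatrix β z) from rfl,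
      ← RingHom.map_det, ← hN₀, mul_div_cancel₀ _ hN0]
  refine ⟨_, isUnit_of_isUnit_norm (R := (v.adicCompletion k)) ?_, hx⟩
  rw [hx, isUnit_iff_ne_zero]
  exact fun h => by rw [h, map_zero] at hu; exact zero_ne_one hu

end Groth.Agent.NFApprox
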